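import Cfsg.Agent.Lib.Coprime.Action
import Cfsg.Agent.Lib.Coprime.PGroupFrattini
import Cfsg.Agent.Lib.Invol.CharTwo
import Mathlib

/-!
# Two-groups with an odd operator group: small tools

Operators are a subgroup `K` of odd order of an ambient group, acting by conjugation.
-/

set_option autoImplicit false

namespace CfsgLib.PGroup.MinEight

open Subgroup
open scoped commutatorElement

variable {S : Type*} [Group S]

/-- An abelian noncyclic subgroup of order eight inside `R`. -/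
def HasA (R : Subgroup S) : Prop :=
  ∃ A : Subgroup S, A ≤ R ∧ IsMulCommutative ↥A ∧ ¬ IsCyclic ↥A ∧ Nat.card ↥A = 8

/-- The two shapes moved by operators of odd order. -/
def Kind (R : Subgroup S) : Prop :=
  (Nat.card R = 4 ∧ ∀ x ∈ R, x * x = 1) ∨ Nonempty (↥R ≃* QuaternionGroup 2)

theorem HasA.mono {R R' : Subgroup S} (h : R ≤ R') : HasA R → HasA R' :=
  fun ⟨A, hA, h'⟩ => ⟨A, hA.trans h, h'⟩

/-- `B ∪ d B` for an element commuting with `B` whose square lies in `B`. -/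
def ext2 (B : Subgroup S) (d : S) (hc : ∀ b ∈ B, d * b = b * d) (hd : d * d ∈ B) : Subgroup S where
  carrier := {x | x ∈ B ∨ d⁻¹ * x ∈ B}
  one_mem' := Or.inl (one_mem B)
  mul_mem' := by
    intro a b ha hb
    rcases ha with ha | ha <;> rcases hb with hb | hb
    · exact Or.inl (mul_mem ha hb)
    · refine Or.inr ?_
      have e : d⁻¹ * (a * b) = a * (d⁻¹ * b) := by
        rw [← mul_assoc, ← mul_assoc]
        congr 1
        rw [inv_mul_eq_iff_eq_mul, ← mul_assoc, hc a ha, mul_inv_cancel_right]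
      rw [e]; exact mul_mem ha hb
    · exact Or.inr (by rw [← mul_assoc]; exact mul_mem ha hb)
    · refine Or.inl ?_
      have e : a * b = d * d * ((d⁻¹ * a) * (d⁻¹ * b)) := by
        calc a * b = d * (d⁻¹ * a) * (d * (d⁻¹ * b)) := by group
          _ = d * ((d⁻¹ * a) * d) * (d⁻¹ * b) := by group
          _ = d * (d * (d⁻¹ * a)) * (d⁻¹ * b) := by rw [hc _ ha]
          _ = _ := by group
      rw [e]; exact mul_mem hd (mul_mem ha hb)
  inv_mem' := by
    intro a ha
    rcases ha with ha | ha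
    · exact Or.inl (inv_mem ha)
    · refine Or.inr ?_
      have hi := hc _ (inv_mem ha)
      have e : d⁻¹ * a⁻¹ = (d * d)⁻¹ * (d⁻¹ * a)⁻¹ := by
        calc d⁻¹ * a⁻¹ = (d * d)⁻¹ * ((d * (d⁻¹ * a)⁻¹) * d⁻¹) := by group
          _ = (d * d)⁻¹ * (((d⁻¹ * a)⁻¹ * d) * d⁻¹) := by rw [hi]
          _ = _ := by group
      rw [e]; exact mul_mem (inv_mem hd) (inv_mem ha)

theorem mem_ext2 {B : Subgroup S} {d : S} {hc : ∀ b ∈ B, d * b = b * d} {hd : d * d ∈ B} {x : S} :
    x ∈ ext2 B d hc hd ↔ x ∈ B ∨ d⁻¹ * x ∈ B := Iff.rfl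

theorem le_ext2 {B : Subgroup S} {d : S} {hc : ∀ b ∈ B, d * b = b * d} {hd : d * d ∈ B} :
    B ≤ ext2 B d hc hd := fun _ h => Or.inl h

theorem self_mem_ext2 {B : Subgroup S} {d : S} {hc : ∀ b ∈ B, d * b = b * d} {hd : d * d ∈ B} :
    d ∈ ext2 B d hc hd := Or.inr (by simp [one_mem])

theorem ext2_le {B R : Subgroup S} {d : S} {hc : ∀ b ∈ B, d * b = b * d} {hd : d * d ∈ B}
    (hB : B ≤ R) (hdR : d ∈ R) : ext2 B d hc hd ≤ R := by
  intro x hx
  rcases hx with h | h
  · exact hB h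
  · have := mul_mem hdR (hB h)
    rwa [mul_inv_cancel_left] at this

variable [Finite S]

theorem relIndex_ext2 {B : Subgroup S} {d : S} (hc : ∀ b ∈ B, d * b = b * d) (hd : d * d ∈ B)
    (hdB : d ∉ B) : B.relIndex (ext2 B d hc hd) = 2 := by
  show (B.subgroupOf (ext2 B d hc hd)).index = 2
  rw [index_eq_two_iff]
  refine ⟨⟨d, self_mem_ext2⟩⁻¹, fun b => ?_⟩
  simp only [mem_subgroupOf, Subgroup.coe_mul, Subgroup.coe_inv]
  rcases b.2 with h | h
  · refine Or.inr ⟨h, fun h' => hdB ?_⟩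
    have e : (b : S) * d⁻¹ * (b : S)⁻¹ = d⁻¹ := by
      rw [mul_inv_eq_iff_eq_mul, eq_inv_mul_iff_mul_eq, ← mul_assoc, hc _ h, mul_inv_cancel_right]
    have := mul_mem (inv_mem h) h'
    rw [inv_mul_cancel_left] at this
    exact inv_mem_iff.1 this
  · refine Or.inl ⟨?_, fun h' => hdB ?_⟩
    · have e : (b : S) * d⁻¹ = d⁻¹ * (b : S) := by
        have e1 := hc _ h
        rw [mul_inv_eq_iff_eq_mul, mul_assoc, eq_inv_mul_iff_mul_eq]
        calc d * (b : S) = d * (d * (d⁻¹ * (b : S))) := by group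
          _ = d * ((d⁻¹ * (b : S)) * d) := by rw [e1]
          _ = _ := by group
      rw [e]; exact h
    · have := mul_mem h' (inv_mem h)
      rwa [mul_inv_rev, inv_inv, mul_inv_cancel_left] at this

theorem card_ext2 {B : Subgroup S} {d : S} (hc : ∀ b ∈ B, d * b = b * d) (hd : d * d ∈ B) (hdB : d ∉ B) :
    Nat.card (ext2 B d hc hd) = 2 * Nat.card B := by
  have h := (B.subgroupOf (ext2 B d hc hd)).card_mul_index
  rw [Nat.card_congr (subgroupOfEquivOfLe le_ext2).toEquiv,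
    show (B.subgroupOf (ext2 B d hc hd)).index = 2 from relIndex_ext2 hc hd hdB] at h
  omega

theorem not_isCyclic_of_two_involutions {A : Subgroup S} {s t : S} (hs : s ∈ A) (ht : t ∈ A)
    (hs2 : s * s = 1) (ht2 : t * t = 1) (hs1 : s ≠ 1) (ht1 : t ≠ 1) (hst : s ≠ t) : ¬ IsCyclic A := by
  classical
  intro h
  haveI := Fintype.ofFinite A
  have hle : (Finset.univ.filter fun x : A => x ^ 2 = 1).card ≤ 2 :=
    IsCyclic.card_pow_eq_one_le (α := A) two_pos
  have hsub : ({1, ⟨s, hs⟩, ⟨t, ht⟩} : Finset A) ⊆ Finset.univ.filter fun x : A => x ^ 2 = 1 := by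
    intro x hx
    simp only [Finset.mem_insert, Finset.mem_singleton] at hx
    rw [Finset.mem_filter]
    refine ⟨Finset.mem_univ _, ?_⟩
    rcases hx with rfl | rfl | rfl
    · simp
    · exact Subtype.ext (by simpa [pow_two] using hs2)
    · exact Subtype.ext (by simpa [pow_two] using ht2)
  have h3 : ({1, ⟨s, hs⟩, ⟨t, ht⟩} : Finset A).card = 3 := by
    rw [Finset.card_eq_three]
    exact ⟨_, _, _, fun e => hs1 (congrArg Subtype.val e).symm, fun e => ht1 (congrArg Subtype.val e).symm,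
      fun e => hst (congrArg Subtype.val e), rfl⟩
  have := Finset.card_le_card hsub
  omega

/-- Building the subgroup of order eight. -/
theorem hasA_of_ext {B R : Subgroup S} {d : S} (hB : B ≤ R) (hdR : d ∈ R) (hB4 : Nat.card B = 4)
    (hab : ∀ a ∈ B, ∀ b ∈ B, a * b = b * a) (hc : ∀ b ∈ B, d * b = b * d) (hd : d * d ∈ B) (hdB : d ∉ B)
    {s t : S} (hs : s ∈ ext2 B d hc hd) (ht : t ∈ ext2 B d hc hd) (hs2 : s * s = 1) (ht2 : t * t = 1)
    (hs1 : s ≠ 1) (ht1 : t ≠ 1) (hst : s ≠ t) : HasA R := by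
  refine ⟨ext2 B d hc hd, ext2_le hB hdR, ?_, not_isCyclic_of_two_involutions hs ht hs2 ht2 hs1 ht1 hst,
    by rw [card_ext2 hc hd hdB, hB4]⟩
  have key : ∀ x ∈ ext2 B d hc hd, (∀ b ∈ B, x * b = b * x) ∧ x * d = d * x := by
    intro x hx
    rcases hx with h | h
    · exact ⟨fun b hb => hab x h b hb, (hc x h).symm⟩
    · have e : x = d * (d⁻¹ * x) := by group
      refine ⟨fun b hb => ?_, ?_⟩
      · rw [e, mul_assoc, hab _ h b hb, ← mul_assoc, hc b hb, mul_assoc]
      · rw [e, mul_assoc, ← hc _ h]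
  refine ⟨⟨fun a b => Subtype.ext ?_⟩⟩
  rcases b.2 with h | h
  · exact (key a a.2).1 _ h
  · have e : (b : S) = d * (d⁻¹ * b) := by group
    show (a : S) * b = b * a
    rw [e, ← mul_assoc, (key a a.2).2, mul_assoc, (key a a.2).1 _ h, ← mul_assoc]

theorem mul_inv_mem_of_card {H B : Subgroup S} (hle : H ≤ B) (hc : Nat.card B = 2 * Nat.card H) {a b : S}
    (ha : a ∈ B) (hb : b ∈ B) (ha' : a ∉ H) (hb' : b ∉ H) : a * b⁻¹ ∈ H := by
  have hi : (H.subgroupOf B).index = 2 := by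
    have h := (H.subgroupOf B).card_mul_index
    rw [Nat.card_congr (subgroupOfEquivOfLe hle).toEquiv, hc, mul_comm 2] at h
    exact Nat.eq_of_mul_eq_mul_left Nat.card_pos h
  have := mul_mem_iff_of_index_two hi (a := ⟨a, ha⟩) (b := ⟨b, hb⟩⁻¹)
  simp only [mem_subgroupOf, Subgroup.coe_mul, Subgroup.coe_inv, inv_mem_iff] at this
  exact this.2 (iff_of_false ha' hb')

theorem card_proper {H R : Subgroup S} (hR : IsPGroup 2 R) (h : H < R) : 2 * Nat.card H ≤ Nat.card R := by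
  haveI : Fact (Nat.Prime 2) := ⟨Nat.prime_two⟩
  obtain ⟨n, hn⟩ := IsPGroup.iff_card.1 hR
  obtain ⟨m, hm⟩ := IsPGroup.iff_card.1 (hR.to_le h.le)
  have hlt : Nat.card H < Nat.card R := by
    refine lt_of_le_of_ne (card_le_of_le h.le) fun e => h.ne (eq_of_le_of_card_ge h.le e.ge)
  rw [hn, hm] at *
  rw [← pow_succ']
  exact Nat.pow_le_pow_right two_pos ((Nat.pow_lt_pow_iff_right (by norm_num)).1 hlt)

theorem exists_sq_mem {R B : Subgroup S} (hR : IsPGroup 2 R) {r : S} (hr : r ∈ R) (hrB : r ∉ B) :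
    ∃ d ∈ zpowers r, d ∉ B ∧ d * d ∈ B := by
  obtain ⟨n, hn⟩ := hR ⟨r, hr⟩
  have hn' : r ^ 2 ^ n = 1 := by simpa using congrArg Subtype.val hn
  classical
  have hex : ∃ m, r ^ 2 ^ m ∈ B := ⟨n, by rw [hn']; exact one_mem B⟩
  have h0 : Nat.find hex ≠ 0 := fun h => hrB (by
    have := Nat.find_spec hex
    rwa [h, pow_zero, pow_one] at this)
  obtain ⟨m, hm⟩ := Nat.exists_eq_succ_of_ne_zero h0
  refine ⟨r ^ 2 ^ m, npow_mem_zpowers r _, Nat.find_min hex (by omega), ?_⟩
  have := Nat.find_spec hex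
  rw [hm] at this
  rwa [← pow_add, ← two_mul, ← pow_succ']

/-- A central four-group exhausts a group without subgroup of type `A`. -/
theorem eq_of_klein_central {R V : Subgroup S} (hR : IsPGroup 2 R) (hA : ¬ HasA R) (hVR : V ≤ R)
    (hV : Nat.card V = 4) (hV2 : ∀ x ∈ V, x * x = 1) (hc : V ≤ centralizer (R : Set S)) : V = R := by
  refine le_antisymm hVR fun r hr => ?_
  by_contra hrV
  obtain ⟨d, hd, hdV, hdd⟩ := exists_sq_mem hR hr hrV
  have hdR : d ∈ R := zpowers_le.2 hr hd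
  have hcomm : ∀ b ∈ V, d * b = b * d := fun b hb => mem_centralizer_iff.1 (hc hb) d hdR
  haveI : Nontrivial V := Finite.one_lt_card_iff_nontrivial.1 (by omega)
  obtain ⟨⟨s, hs⟩, hs1⟩ := exists_ne (1 : V)
  obtain ⟨t, ht, ht'⟩ : ∃ t ∈ V, t ∉ zpowers s := SetLike.exists_of_lt (lt_of_le_of_ne (zpowers_le.2 hs)
    fun e => by
      have h1 : orderOf s ∣ 2 := orderOf_dvd_of_pow_eq_one (by rw [pow_two]; exact hV2 s hs)
      have h2 := Nat.card_zpowers s
      rw [e, hV] at h2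
      have := Nat.le_of_dvd two_pos h1
      omega)
  exact hA (hasA_of_ext hVR hdR hV (fun a ha b hb => mem_centralizer_iff.1 (hc hb) a (hVR ha)) hcomm hdd hdV
    (le_ext2 hs) (le_ext2 ht) (hV2 s hs) (hV2 t ht) (fun e => hs1 (Subtype.ext e))
    (fun e => ht' (e ▸ one_mem _)) (fun e => ht' (e ▸ mem_zpowers s)))

section Op

variable {K : Subgroup S} (hK : Odd (Nat.card K))
include hK

theorem fix_of_step {R : Subgroup S} (hR : IsPGroup 2 R) {k x u : S} (hk : k ∈ K) (hu : u ∈ R)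
    (h : k * x * k⁻¹ = u * x) (hf : k * u * k⁻¹ = u) : u = 1 := by
  haveI : Fact (Nat.Prime 2) := ⟨Nat.prime_two⟩
  refine Coprime.eq_one_of_conj_eq_mul h hf ?_
  obtain ⟨n, hn⟩ := IsPGroup.iff_card.1 hR
  refine ((Nat.coprime_two_right.2 hK).pow_right n).coprime_dvd_left ?_ |>.coprime_dvd_right ?_
  · exact Subgroup.orderOf_dvd_natCard _ hk
  · rw [← hn]; exact Subgroup.orderOf_dvd_natCard _ hu

omit hK in
theorem le_centralizer_iff_fix {V : Subgroup S} :
    K ≤ centralizer (V : Set S) ↔ ∀ k ∈ K, ∀ v ∈ V, k * v * k⁻¹ = v := by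
  refine ⟨fun h k hk v hv => by rw [← mem_centralizer_iff.1 (h hk) v hv, mul_inv_cancel_right],
    fun h k hk => mem_centralizer_iff.2 fun v hv => ?_⟩
  exact (mul_inv_eq_iff_eq_mul.1 (h k hk v hv)).symm

/-- An operator group fixing one involution of a four-group centralises it. -/
theorem fix_klein {V : Subgroup S} (hV : Nat.card V = 4) (hV2 : ∀ x ∈ V, x * x = 1)
    (hn : K ≤ normalizer (V : Set S)) {z : S} (hz : z ∈ V) (hz1 : z ≠ 1) (hfix : ∀ k ∈ K, k * z * k⁻¹ = z) :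
    K ≤ centralizer (V : Set S) := by
  haveI : Fact (Nat.Prime 2) := ⟨Nat.prime_two⟩
  have hc : Nat.card V = 2 * Nat.card (zpowers z) := by
    rw [Nat.card_zpowers, orderOf_eq_prime (p := 2) (by rw [pow_two]; exact hV2 z hz) hz1, hV]
  have hfz : ∀ k ∈ K, ∀ u ∈ zpowers z, k * u * k⁻¹ = u := by
    rintro k hk u ⟨n, rfl⟩
    show k * z ^ n * k⁻¹ = z ^ n
    rw [← conj_zpow, hfix k hk]
  refine le_centralizer_iff_fix.2 fun k hk v hv => ?_
  by_cases hvz : v ∈ zpowers z
  · exact hfz k hk v hvz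
  have hkv : k * v * k⁻¹ ∈ V := Coprime.conj_mem_of_le_normalizer hn hk hv
  have hkv' : k * v * k⁻¹ ∉ zpowers z := by
    intro h
    have := hfz k⁻¹ (inv_mem hk) _ h
    rw [show k⁻¹ * (k * v * k⁻¹) * k⁻¹⁻¹ = v by group] at this
    exact hvz (this ▸ h)
  have hu := mul_inv_mem_of_card (zpowers_le.2 hz) hc hkv hv hkv' hvz
  have hV2' : IsPGroup 2 V := IsPGroup.of_card (n := 2) (by rw [hV]; norm_num)
  have := fix_of_step hK hV2' hk (zpowers_le.2 hz hu) (x := v) (by group) (hfz k hk _ hu)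
  exact mul_inv_eq_one.1 this

/-- A four-group moved by `K` is centralised by every invariant 2-group normalising it. -/
theorem klein_central {R V : Subgroup S} (hR : IsPGroup 2 R) (hVR : V ≤ R) (hRV : R ≤ normalizer (V : Set S))
    (hKR : K ≤ normalizer (R : Set S)) (hKV : K ≤ normalizer (V : Set S)) (hV : Nat.card V = 4)
    (hV2 : ∀ x ∈ V, x * x = 1) (hnc : ¬ K ≤ centralizer (V : Set S)) : V ≤ centralizer (R : Set S) := by
  haveI : Fact (Nat.Prime 2) := ⟨Nat.prime_two⟩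
  set F := V ⊓ centralizer (R : Set S) with hF
  by_contra hne
  have hlt : F < V := lt_of_le_of_ne inf_le_left fun e => hne (e ▸ inf_le_right)
  have hV' : IsPGroup 2 V := IsPGroup.of_card (n := 2) (by rw [hV]; norm_num)
  classical
  obtain ⟨z, hz, hzo, hzc⟩ := Invol.exists_fixed_of_normalized hR hV' (by rintro rfl; rw [card_bot] at hV; omega) hRV
  have hzF : z ∈ F := ⟨hz, mem_centralizer_iff.2 fun r hr => mem_centralizer_singleton_iff.1 (hzc hr)⟩
  have hF2 : Nat.card F ≤ 2 := by have := card_proper hV' hlt; omega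
  have hFz : zpowers z = F := eq_of_le_of_card_ge (zpowers_le.2 hzF) (by rw [Nat.card_zpowers, hzo]; exact hF2)
  have hKF : K ≤ normalizer (F : Set S) :=
    Coprime.inf_le_normalizer hKV (hKR.trans (Coprime.normalizer_le_normalizer_centralizer R))
  refine hnc (fix_klein hK hV hV2 hKV hz (fun e => by rw [e, orderOf_one] at hzo; omega) fun k hk => ?_)
  have hm : k * z * k⁻¹ ∈ zpowers z := hFz ▸ Coprime.conj_mem_of_le_normalizer hKF hk hzF
  obtain ⟨n, hn, he⟩ : ∃ n < 2, z ^ n = k * z * k⁻¹ := by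
    obtain ⟨n, hn⟩ := (isOfFinOrder_of_finite z).mem_zpowers_iff_mem_range_orderOf.1 hm |> Finset.mem_image.1
    exact ⟨n, by rw [← hzo]; exact Finset.mem_range.1 hn.1, hn.2⟩
  interval_cases n
  · rw [pow_zero] at he
    have : z = 1 := by simpa [eq_comm] using he
    rw [this, orderOf_one] at hzo; omega
  · rw [pow_one] at he; exact he.symm

/-- If `[R, K] = R` the fixed points of `K` lie in the derived group. -/
theorem fixed_mem_commutator {R : Subgroup S} (hR : IsPGroup 2 R) (hKR : K ≤ normalizer (R : Set S))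
    (hRK : R ≤ ⁅R, K⁆) {c : S} (hc : c ∈ R) (hfix : ∀ k ∈ K, k * c * k⁻¹ = c) :
    c ∈ (commutator ↥R).map R.subtype := by
  classical
  haveI : Fact (Nat.Prime 2) := ⟨Nat.prime_two⟩
  haveI := Fintype.ofFinite K
  let σ : K → (R →* R) := fun k =>
    { toFun := fun r => ⟨(k : S) * r * (k : S)⁻¹, Coprime.conj_mem_of_le_normalizer hKR k.2 r.2⟩
      map_one' := Subtype.ext (by simp)
      map_mul' := fun a b => Subtype.ext (by simp [mul_assoc]) }
  have hσ : ∀ (k : K) (r : R), ((σ k r : R) : S) = (k : S) * r * (k : S)⁻¹ := fun k r => rfl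
  let ν : R →* Abelianization R :=
    { toFun := fun r => ∏ k : K, Abelianization.of (σ k r)
      map_one' := by simp
      map_mul' := fun a b => by simp [Finset.prod_mul_distrib] }
  have hν : ∀ (k : K) (r : R), ν (σ k r) = ν r := by
    intro k r
    show ∏ l : K, Abelianization.of (σ l (σ k r)) = ∏ l : K, Abelianization.of (σ l r)
    refine Fintype.prod_equiv (Equiv.mulRight k) _ _ fun l => congrArg _ (Subtype.ext ?_)
    simp [hσ, mul_assoc]
  have hker : ⁅R, K⁆ ≤ ν.ker.map R.subtype := by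
    rw [commutator_le]
    intro r hr k hk
    refine ⟨⟨r, hr⟩ * σ ⟨k, hk⟩ ⟨r, hr⟩⁻¹, ?_, ?_⟩
    · rw [SetLike.mem_coe, MonoidHom.mem_ker, map_mul, hν, map_inv, mul_inv_cancel]
    · show r * (k * r⁻¹ * k⁻¹) = ⁅r, k⁆
      rw [commutatorElement_def]; group
  obtain ⟨c', hc', e⟩ := hker (hRK hc)
  have e' : c' = ⟨c, hc⟩ := Subtype.ext e
  subst e'
  have h1 : Abelianization.of (⟨c, hc⟩ : R) ^ Nat.card K = 1 := by
    rw [Nat.card_eq_fintype_card, ← Finset.card_univ, ← Finset.prod_const]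
    refine Eq.trans (Finset.prod_congr rfl fun k _ => ?_) hc'
    exact congrArg _ (Subtype.ext (hfix k k.2).symm)
  obtain ⟨n, hn⟩ := hR ⟨c, hc⟩
  have h2 : Abelianization.of (⟨c, hc⟩ : R) ^ 2 ^ n = 1 := by rw [← map_pow, hn, map_one]
  have h3 : Abelianization.of (⟨c, hc⟩ : R) = 1 := by
    have := pow_gcd_eq_one.2 ⟨h1, h2⟩
    rwa [((Nat.coprime_two_right.2 hK).pow_right n).gcd_eq_one, pow_one] at this
  refine ⟨⟨c, hc⟩, ?_, rfl⟩
  rw [SetLike.mem_coe, ← Abelianization.ker_of, MonoidHom.mem_ker]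
  exact h3

end Op

/-- A normal subgroup of a 2-group has a section fixed by the whole group. -/
theorem exists_fixed_mod {P Q Z : Subgroup S} (hP : IsPGroup 2 P) (hQP : Q ≤ P)
    (hPQ : P ≤ normalizer (Q : Set S)) (hne : ¬ Q ≤ Z) :
    ∃ q ∈ Q, q ∉ Z ∧ ∀ p ∈ P, ⁅q, p⁆ ∈ Z := by
  classical
  haveI : Fact (Nat.Prime 2) := ⟨Nat.prime_two⟩
  haveI : Group.IsNilpotent P := hP.isNilpotent
  let T : ℕ → Subgroup S := fun n => Nat.rec Q (fun _ T' => ⁅T', P⁆) n
  have hTs : ∀ n, T (n + 1) = ⁅T n, P⁆ := fun n => rfl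
  have hTQ : ∀ n, T n ≤ Q := by
    intro n
    induction n with
    | zero => exact le_rfl
    | succ n ih =>
      rw [hTs, commutator_le]
      intro a ha b hb
      rw [commutatorElement_def, show a * b * a⁻¹ * b⁻¹ = a * (b * a⁻¹ * b⁻¹) by group]
      exact mul_mem (ih ha) (Coprime.conj_mem_of_le_normalizer hPQ hb (inv_mem (ih ha)))
  have hTl : ∀ n, T n ≤ (Subgroup.lowerCentralSeries (⊤ : Subgroup ↥P) n).map P.subtype := by
    intro n
    induction n with
    | zero =>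
      show Q ≤ _
      rw [Subgroup.lowerCentralSeries_zero, ← MonoidHom.range_eq_map, range_subtype]; exact hQP
    | succ n ih =>
      have : (Subgroup.lowerCentralSeries (⊤ : Subgroup ↥P) (n + 1)).map P.subtype
          = ⁅(Subgroup.lowerCentralSeries (⊤ : Subgroup ↥P) n).map P.subtype, P⁆ := by
        rw [Subgroup.lowerCentralSeries_succ, map_commutator, ← MonoidHom.range_eq_map, range_subtype]
      rw [hTs, this]
      exact commutator_mono ih le_rfl
  obtain ⟨N, hN⟩ := Subgroup.nilpotent_iff_lowerCentralSeries.1 (inferInstance : Group.IsNilpotent P)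
  have hex : ∃ n, T n ≤ Z := ⟨N, (hTl N).trans (by rw [hN, Subgroup.map_bot]; exact bot_le)⟩
  have h0 : Nat.find hex ≠ 0 := fun h => hne (by
    have := Nat.find_spec hex
    rwa [h] at this)
  obtain ⟨m, hm⟩ := Nat.exists_eq_succ_of_ne_zero h0
  obtain ⟨q, hq, hqZ⟩ := SetLike.not_le_iff_exists.1 (Nat.find_min hex (m := m) (by omega))
  have hsp := @Nat.find_spec (fun n => T n ≤ Z) (Classical.decPred _) hex
  rw [hm, Nat.succ_eq_add_one, hTs] at hsp
  exact ⟨q, hTQ m hq, hqZ, fun p hp => hsp (commutator_mem_commutator hq hp)⟩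

end CfsgLib.PGroup.MinEight
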