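import Cfsg.Agent.Lib.PGroup.MinimalEight.Quat
import Cfsg.Agent.Lib.Fusion.System.MetacyclicTwoNormal
import Mathlib

/-!
# Two-groups moved by odd operators without abelian noncyclic subgroups of order eight
-/

set_option autoImplicit false

namespace CfsgLib.PGroup.MinEight

open Subgroup
open scoped commutatorElement

variable {S : Type*} [Group S]

/-- The Frattini subgroup of `R`, inside the ambient group. -/
noncomputable def Phi (R : Subgroup S) : Subgroup S := (frattini ↥R).map R.subtype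

/-- The derived group of `R`, inside the ambient group. -/
def Der (R : Subgroup S) : Subgroup S := (commutator ↥R).map R.subtype

/-- The centre of `R`, inside the ambient group. -/
def Zc (R : Subgroup S) : Subgroup S := (center ↥R).map R.subtype

theorem mem_Zc {R : Subgroup S} {x : S} : x ∈ Zc R ↔ x ∈ R ∧ x ∈ centralizer (R : Set S) := by
  refine ⟨?_, fun ⟨hx, hc⟩ => ⟨⟨x, hx⟩, mem_center_iff.2 fun r => Subtype.ext (mem_centralizer_iff.1 hc r r.2), rfl⟩⟩
  rintro ⟨y, hy, rfl⟩
  exact ⟨y.2, mem_centralizer_iff.2 fun r hr => congrArg Subtype.val (mem_center_iff.1 hy ⟨r, hr⟩)⟩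

variable [Finite S]

theorem char_norm {K R : Subgroup S} (hKR : K ≤ normalizer (R : Set S)) (C : Subgroup ↥R) [C.Characteristic] :
    K ≤ normalizer ((C.map R.subtype : Subgroup S) : Set S) := by
  intro g hg
  refine mem_normalizer_fintype ?_
  rintro _ ⟨y, hy, rfl⟩
  exact ⟨R.normalizerMonoidHom ⟨g, hKR hg⟩ y, characteristic_iff_map_le.1 inferInstance
    (R.normalizerMonoidHom ⟨g, hKR hg⟩) (mem_map_of_mem _ hy), rfl⟩

theorem sq_mem_Phi {R : Subgroup S} (hR : IsPGroup 2 R) {x : S} (hx : x ∈ R) : x * x ∈ Phi R := by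
  haveI : Fact (Nat.Prime 2) := ⟨Nat.prime_two⟩
  exact ⟨_, Coprime.pow_mem_frattini hR ⟨x, hx⟩, by simp [pow_two]⟩

theorem comm_mem_Der {R : Subgroup S} {x y : S} (hx : x ∈ R) (hy : y ∈ R) : ⁅x, y⁆ ∈ Der R :=
  ⟨⁅(⟨x, hx⟩ : R), ⟨y, hy⟩⁆, commutator_mem_commutator (mem_top _) (mem_top _),
    by simp [commutatorElement_def]⟩

theorem Der_le_Phi {R : Subgroup S} (hR : IsPGroup 2 R) : Der R ≤ Phi R := by
  haveI : Fact (Nat.Prime 2) := ⟨Nat.prime_two⟩
  exact map_mono (Coprime.commutator_le_frattini hR)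

theorem Phi_lt {R : Subgroup S} (hne : R ≠ ⊥) : Phi R < R := by
  refine lt_of_le_of_ne (map_subtype_le _) fun e => hne ?_
  have h1 : frattini ↥R = ⊤ := map_injective R.subtype_injective (e.trans (by rw [← MonoidHom.range_eq_map, range_subtype]))
  have h2 := frattini_nongenerating (K := (⊥ : Subgroup ↥R)) (by rw [h1, sup_top_eq])
  haveI : Subsingleton (Subgroup ↥R) := subsingleton_of_bot_eq_top h2
  haveI : Subsingleton ↥R := Subgroup.subsingleton_iff.1 inferInstance
  exact eq_bot_of_subsingleton R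

theorem card_sup_of_le_two {R D : Subgroup S} (hD : Nat.card D = 2) : ∃ z ∈ D, z ≠ 1 ∧ z * z = 1 ∧
    ∀ x ∈ D, x = 1 ∨ x = z := by
  obtain ⟨z, hz⟩ := exists_prime_orderOf_dvd_card' (G := D) (hp := ⟨Nat.prime_two⟩) 2 (by rw [hD])
  have hz1 : (z : S) ≠ 1 := fun e => by rw [← Subgroup.orderOf_coe, e, orderOf_one] at hz; omega
  refine ⟨z, z.2, hz1, ?_, fun x hx => ?_⟩
  · have := congrArg Subtype.val (hz ▸ pow_orderOf_eq_one z)
    simpa [pow_two] using this
  · by_contra h
    push_neg at h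
    classical
    haveI := Fintype.ofFinite D
    have := Finset.card_le_univ ({1, z, ⟨x, hx⟩} : Finset D)
    rw [← Nat.card_eq_fintype_card, hD, Finset.card_eq_three.2 ⟨1, z, ⟨x, hx⟩, fun e => hz1 (congrArg Subtype.val e).symm,
      fun e => h.1 (congrArg Subtype.val e).symm, fun e => h.2 (congrArg Subtype.val e).symm, rfl⟩] at this
    omega

/-! ### Groups with derived and central subgroup of order two -/

theorem cent_half {R H : Subgroup S} (hH : H ≤ R) (hD : Nat.card (Der R) = 2)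
    (hDc : Der R ≤ centralizer (R : Set S)) {x : S} (hx : x ∈ R) :
    Nat.card H ≤ 2 * Nat.card (H ⊓ centralizer {x} : Subgroup S) := by
  let f : H →* Der R :=
    { toFun := fun h => ⟨⁅x, (h : S)⁆, comm_mem_Der hx (hH h.2)⟩
      map_one' := Subtype.ext (commutatorElement_one_right x)
      map_mul' := fun a b => Subtype.ext (by
        show ⁅x, (a : S) * b⁆ = ⁅x, (a : S)⁆ * ⁅x, (b : S)⁆
        have e := mem_centralizer_iff.1 (hDc (comm_mem_Der hx (hH b.2))) a (hH a.2)
        rw [show ⁅x, (a : S) * b⁆ = ⁅x, (a : S)⁆ * ((a : S) * ⁅x, (b : S)⁆ * (a : S)⁻¹) by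
          simp only [commutatorElement_def]; group, e, mul_inv_cancel_right]) }
  have h1 := f.ker.card_mul_index
  rw [Subgroup.index_ker] at h1
  have h2 : Nat.card f.range ≤ 2 := hD ▸ Subgroup.card_le_card_group f.range
  have h3 : Nat.card f.ker ≤ Nat.card (H ⊓ centralizer {x} : Subgroup S) := by
    rw [← card_map_of_injective H.subtype_injective]
    refine card_le_of_le ?_
    rintro _ ⟨h, hh, rfl⟩
    refine ⟨h.2, mem_centralizer_singleton_iff.2 ?_⟩
    have := congrArg Subtype.val (MonoidHom.mem_ker.1 hh)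
    exact (commutatorElement_eq_one_iff_mul_comm.1 this).symm
  calc Nat.card H = Nat.card f.ker * Nat.card f.range := h1.symm
    _ ≤ Nat.card (H ⊓ centralizer {x} : Subgroup S) * 2 := Nat.mul_le_mul h3 h2
    _ = _ := mul_comm _ _

theorem extra_hasA {R : Subgroup S} (hR : IsPGroup 2 R) (hD : Nat.card (Der R) = 2) (hP : Phi R = Der R)
    (hZ : Zc R = Der R) (h16 : 16 ≤ Nat.card R) : HasA R := by
  obtain ⟨z, hz, hz1, hzz, hDz⟩ := card_sup_of_le_two (R := R) hD
  have hzR : z ∈ R := map_subtype_le _ hz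
  have hDc : Der R ≤ centralizer (R : Set S) := fun d hd => (mem_Zc.1 (hZ.ge hd)).2
  obtain ⟨x, hx, hxD⟩ : ∃ x ∈ R, x ∉ Der R := SetLike.not_le_iff_exists.1 fun h => by
    have := card_le_of_le h; omega
  have hsq : ∀ r ∈ R, r * r = 1 ∨ r * r = z := fun r hr => hDz _ (hP ▸ sq_mem_Phi hR hr)
  have hc : ∀ b ∈ Der R, x * b = b * x := fun b hb => mem_centralizer_iff.1 (hDc hb) x hx
  have hq : x * x ∈ Der R := hP ▸ sq_mem_Phi hR hx
  set B := ext2 (Der R) x hc hq with hB
  have hBR : B ≤ R := ext2_le (map_subtype_le _) hx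
  have hB4 : Nat.card B = 4 := by rw [hB, card_ext2 hc hq hxD, hD]
  have hh := cent_half (le_refl R) hD hDc hx
  obtain ⟨y, hy, hyB⟩ : ∃ y ∈ R ⊓ centralizer {x}, y ∉ B := SetLike.not_le_iff_exists.1 fun h => by
    have := card_le_of_le h; omega
  have hyx : y * x = x * y := mem_centralizer_singleton_iff.1 hy.2
  have hcy : ∀ b ∈ B, y * b = b * y := by
    intro b hb
    rcases hb with h | h
    · exact mem_centralizer_iff.1 (hDc h) y hy.1
    · have e : b = x * (x⁻¹ * b) := by group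
      rw [e, ← mul_assoc, hyx, mul_assoc, mem_centralizer_iff.1 (hDc h) y hy.1, ← mul_assoc]
  have hab : ∀ a ∈ B, ∀ b ∈ B, a * b = b * a := by
    have hx' : ∀ b ∈ B, x * b = b * x := by
      intro b hb
      rcases hb with h | h
      · exact hc b h
      · have e : b = x * (x⁻¹ * b) := by group
        rw [e]
        conv_lhs => rw [hc _ h]
        group
    intro a ha b hb
    rcases ha with h | h
    · exact (mem_centralizer_iff.1 (hDc h) b (hBR hb)).symm
    · have e : a = x * (x⁻¹ * a) := by group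
      rw [e, mul_assoc, ← mem_centralizer_iff.1 (hDc h) b (hBR hb), ← mul_assoc, hx' b hb, mul_assoc]
  have hyy : y * y ∈ B := le_ext2 (hP ▸ sq_mem_Phi hR hy.1)
  have hzA : z ∈ ext2 B y hcy hyy := le_ext2 (le_ext2 hz)
  rcases hsq x hx with hxx | hxx
  · exact hasA_of_ext hBR hy.1 hB4 hab hcy hyy hyB hzA (le_ext2 self_mem_ext2) hzz hxx hz1
      (fun e => hxD (e ▸ one_mem _)) (fun e => hxD (e ▸ hz))
  rcases hsq y hy.1 with hyy' | hyy'
  · exact hasA_of_ext hBR hy.1 hB4 hab hcy hyy hyB hzA self_mem_ext2 hzz hyy' hz1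
      (fun e => hyB (e ▸ one_mem _)) (fun e => hyB (e ▸ le_ext2 hz))
  refine hasA_of_ext hBR hy.1 hB4 hab hcy hyy hyB hzA (mul_mem self_mem_ext2 (le_ext2 self_mem_ext2)) hzz
    (t := y * x) ?_ hz1 ?_ ?_
  · calc y * x * (y * x) = y * (x * y) * x := by group
      _ = y * y * (x * x) := by rw [← hyx]; group
      _ = 1 := by rw [hyy', hxx, hzz]
  · exact fun e => hyB (eq_inv_of_mul_eq_one_left e ▸ inv_mem self_mem_ext2)
  · exact fun e => hyB (eq_mul_inv_of_mul_eq e.symm ▸ mul_mem (le_ext2 hz) (inv_mem self_mem_ext2))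

theorem extra_not_sixteen {R : Subgroup S} (hR : IsPGroup 2 R) (hD : Nat.card (Der R) = 2) (hP : Phi R = Der R)
    (hZ : Zc R = Der R) (h16 : Nat.card R = 16) : False := by
  have hDc : Der R ≤ centralizer (R : Set S) := fun d hd => (mem_Zc.1 (hZ.ge hd)).2
  have hDR : Der R ≤ R := map_subtype_le _
  obtain ⟨x, hx, hxD⟩ : ∃ x ∈ R, x ∉ Der R := SetLike.not_le_iff_exists.1 fun h => by
    have := card_le_of_le h; omega
  obtain ⟨y, hy, hyx⟩ : ∃ y ∈ R, y * x ≠ x * y := by
    by_contra h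
    push_neg at h
    exact hxD (hZ ▸ mem_Zc.2 ⟨hx, mem_centralizer_iff.2 h⟩)
  have h1 := cent_half (le_refl R) hD hDc hx
  have h2 := cent_half (inf_le_left : R ⊓ centralizer {x} ≤ R) hD hDc hy
  obtain ⟨w, hw, hwD⟩ : ∃ w ∈ (R ⊓ centralizer {x}) ⊓ centralizer {y}, w ∉ Der R :=
    SetLike.not_le_iff_exists.1 fun h => by have := card_le_of_le h; omega
  have hwx : w * x = x * w := mem_centralizer_singleton_iff.1 hw.1.2
  have hwy : w * y = y * w := mem_centralizer_singleton_iff.1 hw.2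
  set H := R ⊓ centralizer {w} with hHdef
  have hlt : H < R := lt_of_le_of_ne inf_le_left fun e => hwD (hZ ▸ mem_Zc.2 ⟨hw.1.1, mem_centralizer_iff.2 fun r hr =>
    mem_centralizer_singleton_iff.1 (e.ge hr).2⟩)
  have h3 := card_proper hR hlt
  have hxH : x ∈ H := ⟨hx, mem_centralizer_singleton_iff.2 hwx.symm⟩
  have hyH : y ∈ H := ⟨hy, mem_centralizer_singleton_iff.2 hwy.symm⟩
  have hJ : H ⊓ centralizer {x} < H := lt_of_le_of_ne inf_le_left fun e =>
    hyx (mem_centralizer_singleton_iff.1 (e.ge hyH).2)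
  have h4 := card_proper (hR.to_le hlt.le) hJ
  have hq : w * w ∈ Der R := hP ▸ sq_mem_Phi hR hw.1.1
  have hc : ∀ b ∈ Der R, w * b = b * w := fun b hb => mem_centralizer_iff.1 (hDc hb) w hw.1.1
  have hBJ : ext2 (Der R) w hc hq ≤ H ⊓ centralizer {x} := by
    refine ext2_le (fun d hd => ⟨⟨hDR hd, ?_⟩, ?_⟩) ⟨⟨hw.1.1, mem_centralizer_singleton_iff.2 rfl⟩, hw.1.2⟩
    · exact mem_centralizer_singleton_iff.2 (mem_centralizer_iff.1 (hDc hd) w hw.1.1).symm
    · exact mem_centralizer_singleton_iff.2 (mem_centralizer_iff.1 (hDc hd) x hx).symm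
  have hB4 : Nat.card (ext2 (Der R) w hc hq) = 4 := by rw [card_ext2 hc hq hwD, hD]
  have heq := eq_of_le_of_card_ge hBJ (by omega)
  have hxB : x ∈ ext2 (Der R) w hc hq := heq.ge ⟨hxH, mem_centralizer_singleton_iff.2 rfl⟩
  rcases hxB with h | h
  · exact hxD h
  · apply hyx
    have e : x = w * (w⁻¹ * x) := by group
    rw [e, ← mul_assoc, ← hwy, mul_assoc, mem_centralizer_iff.1 (hDc h) y hy, ← mul_assoc]

/-! ### Operators with `[R, K] = R` -/

section Op

variable {K : Subgroup S} (hK : Odd (Nat.card K))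
include hK

theorem Kind.central_or_split {R Y : Subgroup S} (hY : Kind Y) (hR : IsPGroup 2 R) (hYR : Y ≤ R)
    (hRY : R ≤ normalizer (Y : Set S)) (hKR : K ≤ normalizer (R : Set S)) (hKY : K ≤ normalizer (Y : Set S))
    (hnc : ¬ K ≤ centralizer (Y : Set S)) :
    (Nat.card Y = 4 ∧ (∀ x ∈ Y, x * x = 1) ∧ Y ≤ centralizer (R : Set S)) ∨
      (∃ i j z, Quat Y i j z ∧ ∀ r ∈ R, ∃ c ∈ Y, c⁻¹ * r ∈ centralizer (Y : Set S)) := by
  rcases hY with ⟨h4, h2⟩ | h
  · exact Or.inl ⟨h4, h2, klein_central hK hR hYR hRY hKR hKY h4 h2 hnc⟩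
  · obtain ⟨i, j, z, q⟩ := exists_quat h
    exact Or.inr ⟨i, j, z, q, q.inner hK hR hYR hRY hKR hKY hnc⟩

theorem top_data {R : Subgroup S} (hR : IsPGroup 2 R) (hne : R ≠ ⊥) (hKR : K ≤ normalizer (R : Set S))
    (hRK : ⁅R, K⁆ = R) (hkind : ¬ K ≤ centralizer (Phi R : Set S) → Kind (Phi R)) :
    Phi R ≤ Zc R ∧ (∀ d ∈ Der R, d * d = 1) ∧ (K ≤ centralizer (Phi R : Set S) → Phi R = Der R) ∧
      (¬ K ≤ centralizer (Phi R : Set S) → Nat.card (Phi R) = 4 ∧ ∀ x ∈ Phi R, x * x = 1) := by
  have hPR : Phi R < R := Phi_lt hne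
  have hKP : K ≤ normalizer (Phi R : Set S) := char_norm hKR _
  have hRP : R ≤ normalizer (Phi R : Set S) := char_norm le_normalizer _
  have hcase : Phi R ≤ centralizer (R : Set S) ∧
      (¬ K ≤ centralizer (Phi R : Set S) → Nat.card (Phi R) = 4 ∧ ∀ x ∈ Phi R, x * x = 1) := by
    by_cases hc : K ≤ centralizer (Phi R : Set S)
    · refine ⟨?_, fun h => absurd hc h⟩
      have h1 : ⁅K, Phi R⁆ = ⊥ := commutator_eq_bot_iff_le_centralizer.2 hc
      have h2 : ⁅Phi R, R⁆ ≤ Phi R := by
        rw [commutator_le]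
        intro a ha b hb
        rw [commutatorElement_def, show a * b * a⁻¹ * b⁻¹ = a * (b * a⁻¹ * b⁻¹) by group]
        exact mul_mem ha (Coprime.conj_mem_of_le_normalizer hRP hb (inv_mem ha))
      have h3 : ⁅⁅R, K⁆, Phi R⁆ = ⊥ := commutator_commutator_eq_bot_of_rotate
        (by rw [h1, commutator_bot_left])
        (le_bot_iff.1 ((commutator_mono h2 le_rfl).trans (by rw [commutator_comm, h1])))
      rw [hRK] at h3
      rw [le_centralizer_iff]
      exact commutator_eq_bot_iff_le_centralizer.1 h3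
    · rcases (hkind hc).central_or_split hK hR hPR.le hRP hKR hKP hc with ⟨h4, h2, h⟩ | ⟨i, j, z, q, hin⟩
      · exact ⟨h, fun _ => ⟨h4, h2⟩⟩
      · exfalso
        have htop : (centralizer (Phi R : Set S)).subgroupOf R ⊔ frattini ↥R = ⊤ := by
          refine eq_top_iff.2 fun r _ => ?_
          obtain ⟨c, hc, hcr⟩ := hin r r.2
          obtain ⟨c', hc', rfl⟩ := hc
          have e : r = c' * (c'⁻¹ * r) := by group
          rw [e, sup_comm]
          exact mul_mem_sup hc' (by rw [mem_subgroupOf]; simpa using hcr)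
        have h1 := subgroupOf_eq_top.1 (frattini_nongenerating htop)
        exact q.not_comm ⟨⟨fun a b => Subtype.ext (mem_centralizer_iff.1 (h1 (hPR.le b.2)) a a.2)⟩⟩
  obtain ⟨hcen, hcase⟩ := hcase
  refine ⟨fun x hx => mem_Zc.2 ⟨hPR.le hx, hcen hx⟩, ?_, fun hc => ?_, hcase⟩
  · let N : Subgroup S :=
      { carrier := {d | d ∈ Phi R ∧ d * d = 1}
        one_mem' := ⟨one_mem _, one_mul 1⟩
        mul_mem' := fun {a b} ha hb => ⟨mul_mem ha.1 hb.1, by
          rw [(show Commute b a from (mem_centralizer_iff.1 (hcen hb.1) a (hPR.le ha.1)).symm).mul_mul_mul_comm,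
            ha.2, hb.2, one_mul]⟩
        inv_mem' := fun {a} ha => ⟨inv_mem ha.1, by rw [← mul_inv_rev, ha.2, inv_one]⟩ }
    suffices h : Der R ≤ N from fun d hd => (h hd).2
    rw [Der, _root_.commutator_def, map_commutator, ← MonoidHom.range_eq_map, range_subtype, commutator_le]
    intro a ha b hb
    have hab : ⁅a, b⁆ ∈ Phi R := Der_le_Phi hR (comm_mem_Der ha hb)
    refine ⟨hab, ?_⟩
    have h1 : ⁅a * a, b⁆ = 1 := commutatorElement_eq_one_iff_mul_comm.2
      (mem_centralizer_iff.1 (hcen (sq_mem_Phi hR ha)) b hb).symm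
    have e : ⁅a * a, b⁆ = (a * ⁅a, b⁆ * a⁻¹) * ⁅a, b⁆ := by simp only [commutatorElement_def]; group
    rw [e, mem_centralizer_iff.1 (hcen hab) a ha, mul_inv_cancel_right] at h1
    exact h1
  · refine le_antisymm (fun x hx => ?_) (Der_le_Phi hR)
    exact fixed_mem_commutator hK hR hKR hRK.ge (hPR.le hx)
      fun k hk => le_centralizer_iff_fix.1 hc k hk x hx

/-- The centre is the derived group when the latter has order two. -/
theorem Zc_eq_Der {R : Subgroup S} (hR : IsPGroup 2 R) (hKR : K ≤ normalizer (R : Set S))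
    (hRK : ⁅R, K⁆ = R) (hle : Der R ≤ Zc R) (hD : Nat.card (Der R) = 2)
    (hkind : ¬ K ≤ centralizer (Zc R : Set S) → Kind (Zc R)) : Zc R = Der R := by
  refine le_antisymm (fun x hx => ?_) hle
  by_cases hc : K ≤ centralizer (Zc R : Set S)
  · exact fixed_mem_commutator hK hR hKR hRK.ge (mem_Zc.1 hx).1 fun k hk => le_centralizer_iff_fix.1 hc k hk x hx
  exfalso
  obtain ⟨z, hz, hz1, -, hDz⟩ := card_sup_of_le_two (R := R) hD
  rcases hkind hc with ⟨h4, h2⟩ | h
  · refine hc (fix_klein hK h4 h2 (char_norm hKR _) (hle hz) hz1 fun k hk => ?_)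
    have hkz : k * z * k⁻¹ ∈ Der R := Coprime.conj_mem_of_le_normalizer (char_norm hKR _) hk hz
    rcases hDz _ hkz with e | e
    · exact absurd (conj_eq_one_iff.1 e) hz1
    · exact e
  · obtain ⟨i, j, w, q⟩ := exists_quat h
    exact q.not_comm ⟨⟨fun a b => Subtype.ext (mem_centralizer_iff.1 (mem_Zc.1 b.2).2 a (mem_Zc.1 a.2).1)⟩⟩

theorem commutator_le_self {R : Subgroup S} (hKR : K ≤ normalizer (R : Set S)) : ⁅R, K⁆ ≤ R := by
  rw [commutator_le]
  intro a ha b hb
  rw [commutatorElement_def, show a * b * a⁻¹ * b⁻¹ = a * (b * a⁻¹ * b⁻¹) by group]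
  exact mul_mem ha (Coprime.conj_mem_of_le_normalizer hKR hb (inv_mem ha))

omit hK in
theorem comm_normal {R : Subgroup S} : R ≤ normalizer ((⁅R, K⁆ : Subgroup S) : Set S) ∧
    K ≤ normalizer ((⁅R, K⁆ : Subgroup S) : Set S) :=
  ⟨normalizer_commutator_ge_left R K, by rw [commutator_comm]; exact normalizer_commutator_ge_left K R⟩

theorem cop {R : Subgroup S} (hR : IsPGroup 2 R) : (Nat.card K).Coprime (Nat.card R) := by
  haveI : Fact (Nat.Prime 2) := ⟨Nat.prime_two⟩
  obtain ⟨n, hn⟩ := IsPGroup.iff_card.1 hR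
  rw [hn]; exact (Nat.coprime_two_right.2 hK).pow_right n

theorem not_cent_comm {R : Subgroup S} (hR : IsPGroup 2 R) (hKR : K ≤ normalizer (R : Set S))
    (hnc : ¬ K ≤ centralizer (R : Set S)) : ¬ K ≤ centralizer ((⁅R, K⁆ : Subgroup S) : Set S) := fun h => by
  haveI : Fact (Nat.Prime 2) := ⟨Nat.prime_two⟩
  exact hnc (Coprime.le_centralizer_of_le_centralizer_commutator hKR (cop hK hR)
    (Or.inr (Coprime.isSolvable_of_isNilpotent hR.isNilpotent)) h)

/-- The classification. -/
theorem classify : ∀ {R : Subgroup S}, IsPGroup 2 R → K ≤ normalizer (R : Set S) →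
    ¬ K ≤ centralizer (R : Set S) → ¬ HasA R → Kind R := by
  intro R
  induction hn : Nat.card R using Nat.strong_induction_on generalizing R with
  | _ n ih =>
  intro hR hKR hnc hA
  haveI : Fact (Nat.Prime 2) := ⟨Nat.prime_two⟩
  have sub : ∀ R' : Subgroup S, R' < R → K ≤ normalizer (R' : Set S) → ¬ K ≤ centralizer (R' : Set S) → Kind R' :=
    fun R' h hn' hc' => ih (Nat.card R') (hn ▸ by
      have := card_proper hR h
      have : 0 < Nat.card R' := Nat.card_pos
      omega) rfl (hR.to_le h.le) hn' hc' fun hA' => hA (hA'.mono h.le)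
  rcases (commutator_le_self hK hKR).lt_or_eq with hlt | hRK
  · exfalso
    obtain ⟨hRY, hKY⟩ := comm_normal (R := R) (K := K)
    have hncY := not_cent_comm hK hR hKR hnc
    rcases (sub _ hlt hKY hncY).central_or_split hK hR hlt.le hRY hKR hKY hncY with ⟨h4, h2, hc⟩ | ⟨i, j, z, q, hin⟩
    · exact hlt.ne (eq_of_klein_central hR hA hlt.le h4 h2 hc)
    · obtain ⟨r, hr, hrY⟩ := SetLike.exists_of_lt hlt
      obtain ⟨c, hc, hcr⟩ := hin r hr
      have hrc : c⁻¹ * r ∈ R ⊓ centralizer ((⁅R, K⁆ : Subgroup S) : Set S) := Subgroup.mem_inf.2 ⟨mul_mem (inv_mem (hlt.le hc)) hr, hcr⟩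
      obtain ⟨d, hd, hdY, hdd⟩ := exists_sq_mem hR hrc.1 (B := ⁅R, K⁆) fun h => hrY (by
        have := mul_mem hc h
        rwa [mul_inv_cancel_left] at this)
      have hdR : d ∈ R ⊓ centralizer ((⁅R, K⁆ : Subgroup S) : Set S) := zpowers_le.2 hrc hd
      have hdd' : d * d = 1 ∨ d * d = z := q.invol _ hdd (q.cij _ hdd
        (mem_centralizer_iff.1 (mul_mem hdR.2 hdR.2) i q.hi).symm
        (mem_centralizer_iff.1 (mul_mem hdR.2 hdR.2) j q.hj).symm)
      obtain ⟨_, _, hA'⟩ := q.hasA hK hdR.2 hdd' hdY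
      exact hA (hA'.mono (ext2_le hlt.le hdR.1))
  have hne : R ≠ ⊥ := fun e => hnc (e ▸ fun k _ => mem_centralizer_iff.2 fun v hv => by
    rw [mem_bot.1 hv, one_mul, mul_one])
  have hPlt : Phi R < R := Phi_lt hne
  obtain ⟨hPZ, hDsq, hPD, hPnc⟩ := top_data hK hR hne hKR hRK (sub _ hPlt (char_norm hKR _))
  have hPc : Phi R ≤ centralizer (R : Set S) := fun x hx => (mem_Zc.1 (hPZ hx)).2
  by_cases hc : K ≤ centralizer (Phi R : Set S)
  swap
  · exfalso
    obtain ⟨h4, h2⟩ := hPnc hc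
    exact hPlt.ne (eq_of_klein_central hR hA hPlt.le h4 h2 hPc)
  have hPD := hPD hc
  obtain ⟨m, hm⟩ := IsPGroup.iff_card.1 (hR.to_le hPlt.le)
  have hm1 : m ≤ 1 := by
    by_contra h
    obtain ⟨V, hV, hVP⟩ := Sylow.exists_subgroup_card_pow_prime_le 2
      (n := 0) (m := 2) (by rw [hm]; exact pow_dvd_pow 2 (by omega)) (⊥ : Subgroup (Phi R)) (by simp) (by omega)
    have hV4 : Nat.card (V.map (Phi R).subtype) = 4 := by
      rw [card_map_of_injective (Phi R).subtype_injective, hV]; norm_num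
    have hVle : V.map (Phi R).subtype ≤ Phi R := map_subtype_le _
    have := eq_of_klein_central hR hA (hVle.trans hPlt.le) hV4
      (fun x hx => hDsq x (hPD ▸ hVle hx)) (hVle.trans hPc)
    exact hPlt.not_ge (this.symm.le.trans hVle)
  interval_cases m
  · rw [pow_zero, card_eq_one] at hm
    have hel : ∀ x ∈ R, x * x = 1 := fun x hx => mem_bot.1 (hm ▸ sq_mem_Phi hR hx)
    have hab : ∀ a ∈ R, ∀ b ∈ R, a * b = b * a := fun a ha b hb => commutatorElement_eq_one_iff_mul_comm.1
      (mem_bot.1 (hm ▸ (Der_le_Phi hR (comm_mem_Der ha hb))))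
    refine Or.inl ⟨?_, hel⟩
    obtain ⟨e, he⟩ := IsPGroup.iff_card.1 hR
    have he3 : e ≤ 2 := by
      by_contra h
      obtain ⟨V, hV, -⟩ := Sylow.exists_subgroup_card_pow_prime_le 2
        (n := 0) (m := 2) (by rw [he]; exact pow_dvd_pow 2 (by omega)) (⊥ : Subgroup R) (by simp) (by omega)
      have hV4 : Nat.card (V.map R.subtype) = 4 := by
        rw [card_map_of_injective R.subtype_injective, hV]; norm_num
      have hVR : V.map R.subtype ≤ R := map_subtype_le _
      have hVeq := eq_of_klein_central hR hA hVR hV4 (fun x hx => hel x (hVR hx))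
        (fun x hx => mem_centralizer_iff.2 fun r hr => hab r hr x (hVR hx))
      rw [← hVeq, hV4] at he
      have : (2:ℕ) ^ 3 ≤ 2 ^ e := Nat.pow_le_pow_right two_pos (by omega)
      omega
    interval_cases e
    · rw [pow_zero, card_eq_one] at he; exact absurd he hne
    · exfalso
      rw [pow_one] at he
      obtain ⟨z, hz, hz1, -, hDz⟩ := card_sup_of_le_two (R := R) he
      refine hnc (le_centralizer_iff_fix.2 fun k hk v hv => ?_)
      rcases hDz v hv with rfl | rfl
      · group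
      · rcases hDz _ (Coprime.conj_mem_of_le_normalizer hKR hk hv) with e | e
        · exact absurd (conj_eq_one_iff.1 e) hz1
        · exact e
    · rw [he]; norm_num
  · rw [pow_one] at hm
    have hD2 : Nat.card (Der R) = 2 := hPD ▸ hm
    have hDR : Der R ≤ R := map_subtype_le _
    have hna : ¬ IsMulCommutative R := by
      intro h
      have : Der R = ⊥ := by
        rw [Der, _root_.commutator_def, map_commutator, ← MonoidHom.range_eq_map, range_subtype,
          commutator_eq_bot_iff_le_centralizer]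
        exact fun a ha => mem_centralizer_iff.2 fun b hb => congrArg Subtype.val (h.is_comm.comm ⟨b, hb⟩ ⟨a, ha⟩)
      rw [this, card_bot] at hD2; omega
    have hZlt : Zc R < R := lt_of_le_of_ne (map_subtype_le _) fun e => hna ⟨⟨fun a b => Subtype.ext
      (mem_centralizer_iff.1 (mem_Zc.1 (e.ge b.2)).2 a a.2)⟩⟩
    have hZD := Zc_eq_Der hK hR hKR hRK (hPD ▸ hPZ) hD2 (sub _ hZlt (char_norm hKR _))
    have h8 : Nat.card R = 8 := by
      by_contra h
      obtain ⟨e, he⟩ := IsPGroup.iff_card.1 hR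
      have h4 : 4 ≤ e := by
        by_contra h'
        interval_cases e
        · rw [pow_zero, card_eq_one] at he; exact hne he
        · haveI : IsCyclic R := isCyclic_of_prime_card (p := 2) (by simpa using he); exact hna inferInstance
        · exact hna (IsPGroup.isMulCommutative_of_card_eq_prime_sq (p := 2) he)
        · exact h (by simpa using he)
      exact hA (extra_hasA hR hD2 hPD hZD (he ▸ (show 2 ^ 4 ≤ 2 ^ e from Nat.pow_le_pow_right two_pos h4)))
    rcases Fusion.MetaTwo.dihedral_or_quaternion_eight h8 hna with hdd | hq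
    · exfalso
      obtain ⟨f⟩ := hdd
      have hd8 : ∀ q : DihedralGroup 4, q * q ≠ 1 → q = DihedralGroup.r 1 ∨ q = DihedralGroup.r 3 := by decide
      set i : R := f.symm (DihedralGroup.r 1)
      have hi2 : (i : S) * i ≠ 1 := fun e => by
        have e' : f (i * i) = f 1 := congrArg f (Subtype.ext e)
        rw [map_mul, map_one, f.apply_symm_apply] at e'
        exact absurd e' (by decide)
      have key : ∀ x (hx : x ∈ R), x * x ≠ 1 → x = i ∨ x = (i : S)⁻¹ := by
        intro x hx h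
        have h' : f ⟨x, hx⟩ * f ⟨x, hx⟩ ≠ 1 := by
          rw [← map_mul, Ne, MulEquiv.map_eq_one_iff]
          exact fun e => h (congrArg Subtype.val e)
        rcases hd8 _ h' with e | e
        · exact Or.inl (congrArg Subtype.val (f.eq_symm_apply.2 e))
        · refine Or.inr (congrArg Subtype.val (show (⟨x, hx⟩ : R) = i⁻¹ from f.injective ?_))
          rw [e, map_inv, f.apply_symm_apply]; decide
      have hfix : ∀ k ∈ K, k * (i : S) * k⁻¹ = i := by
        intro k hk
        rcases key _ (Coprime.conj_mem_of_le_normalizer hKR hk i.2) (fun e => hi2 (by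
          rw [conj_mul, conj_eq_one_iff] at e; exact e)) with e | e
        · exact e
        · exfalso
          have hu : ((i : S)⁻¹ * (i : S)⁻¹) ∈ Der R := hPD ▸ sq_mem_Phi hR (inv_mem i.2)
          have h1 := fix_of_step hK hR hk (hDR hu) (x := (i : S))
            (by rw [e]; group) (le_centralizer_iff_fix.1 hc k hk _ (hPD ▸ hu))
          apply hi2
          rw [← inv_inj, mul_inv_rev, h1, inv_one]
      have hiD : (i : S) ∈ Der R := fixed_mem_commutator hK hR hKR hRK.ge i.2 hfix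
      exact hi2 (hDsq _ hiD)
    · exact Or.inr hq

end Op

end CfsgLib.PGroup.MinEight
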