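import Cfsg.Agent.Lib.PGroup.MinimalEight.Classify
import Cfsg.Agent.Lib.Coprime.Hall
import Mathlib
import Cfsg.Prelude

/-!
# Solvable groups minimal with an abelian noncyclic subgroup of order eight
-/

set_option autoImplicit false

namespace CfsgLib.PGroup.MinEight

open Subgroup
open scoped commutatorElement

variable {S : Type*} [Group S] [Finite S] {K : Subgroup S} (hK : Odd (Nat.card K))
include hK

/-- The shape of a 2-group minimal with a subgroup of type `A`, as an invariant subgroup. -/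
theorem minimal_shape {X : Subgroup S} (hX : IsPGroup 2 X) (hna : ¬ IsMulCommutative X)
    (hKX : K ≤ normalizer (X : Set S)) (hnc : ¬ K ≤ centralizer (X : Set S))
    (hsub : ∀ R : Subgroup S, R < X → K ≤ normalizer (R : Set S) → ¬ HasA R) (hA : HasA X) :
    (Cfsg.IsExtraspecial 2 ↥X ∧ 32 ≤ Nat.card ↥X) ∨
      (∃ (X₀ : Subgroup S) (k : ℕ), X₀ ≤ X ∧ X₀.relIndex X = 2 ∧
        Nonempty (↥X₀ ≃* QuaternionGroup (2 ^ (k + 1))) ∧ X₀ ⊔ (X ⊓ centralizer (X₀ : Set S)) = X) ∨
      (Cfsg.IsSpecial 2 ↥X ∧ Nat.card ↥(center ↥X) = 4) := by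
  haveI : Fact (Nat.Prime 2) := ⟨Nat.prime_two⟩
  have cls : ∀ R : Subgroup S, R < X → K ≤ normalizer (R : Set S) → ¬ K ≤ centralizer (R : Set S) → Kind R :=
    fun R h hn hc => classify hK (hX.to_le h.le) hn hc (hsub R h hn)
  rcases (commutator_le_self hK hKX).lt_or_eq with hlt | hXK
  · obtain ⟨hXY, hKY⟩ := comm_normal (R := X) (K := K)
    have hncY := not_cent_comm hK hX hKX hnc
    have hsplit := Coprime.commutator_sup_centralizer hKX (cop hK hX)
      (Or.inr (Coprime.isSolvable_of_isNilpotent hX.isNilpotent))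
    set Y : Subgroup S := ⁅X, K⁆ with hY
    have hkind := cls _ hlt hKY hncY
    rcases hkind.central_or_split hK hX hlt.le hXY hKX hKY hncY with ⟨h4, h2, hc⟩ | ⟨i, j, z, q, hin⟩
    · exfalso
      set C := X ⊓ centralizer (K : Set S) with hC
      have hYc : ∀ y ∈ Y, ∀ x ∈ X, x * y = y * x := fun y hy x hx => mem_centralizer_iff.1 (hc hy) x hx
      have hCY : ∀ c ∈ C, c ∈ Y → c = 1 := by
        intro c hcC hcY
        by_contra h1
        exact hncY (fix_klein hK h4 h2 hKY hcY h1 fun k hk => by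
          rw [mem_centralizer_iff.1 hcC.2 k hk, mul_inv_cancel_right])
      have hXY' : X ≤ normalizer (Y : Set S) := hXY
      have hdec : ∀ x ∈ X, ∃ y ∈ Y, ∃ c ∈ C, y * c = x := fun x hx =>
        Coprime.mem_sup_exists ((inf_le_left : C ≤ X).trans hXY') (hsplit.ge hx)
      have hCnb : C ≠ ⊥ := fun e => hlt.ne (le_antisymm hlt.le fun x hx => by
        obtain ⟨y, hy, c, hc', rfl⟩ := hdec x hx
        rw [e, mem_bot] at hc'
        rw [hc', mul_one]; exact hy)
      haveI : Nontrivial C := (nontrivial_iff_ne_bot C).2 hCnb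
      haveI : Nontrivial (center C) := (hX.to_le (inf_le_left : C ≤ X)).center_nontrivial
      obtain ⟨k, hk⟩ := IsPGroup.iff_card.1 ((hX.to_le (inf_le_left : C ≤ X)).to_subgroup (center C))
      have hk0 : k ≠ 0 := fun e => by
        rw [e, pow_zero] at hk
        have := Finite.one_lt_card_iff_nontrivial.2 ‹Nontrivial (center C)›
        rw [hk] at this
        omega
      obtain ⟨c, hc2⟩ := exists_prime_orderOf_dvd_card' (G := center C) 2 (by rw [hk]; exact dvd_pow_self 2 hk0)
      set c0 : S := ((c : C) : S) with hc0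
      have hc0o : orderOf c0 = 2 := by rw [hc0, Subgroup.orderOf_coe, Subgroup.orderOf_coe, hc2]
      have hc0C : c0 ∈ C := (c : C).2
      have hc01 : c0 ≠ 1 := fun e => by rw [e, orderOf_one] at hc0o; omega
      have hc00 : c0 * c0 = 1 := by rw [← pow_two, ← hc0o, pow_orderOf_eq_one]
      have hcY : c0 ∉ Y := fun h => hc01 (hCY c0 hc0C h)
      have hcc : ∀ b ∈ Y, c0 * b = b * c0 := fun b hb => hYc b hb c0 hc0C.1
      have hqq : c0 * c0 ∈ Y := hc00 ▸ one_mem Y
      have hYab : ∀ a ∈ Y, ∀ b ∈ Y, a * b = b * a := fun a ha b hb => hYc b hb a (hlt.le ha)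
      set B := ext2 Y c0 hcc hqq with hB
      have hBX : B ≤ X := ext2_le hlt.le hc0C.1
      haveI : Nontrivial Y := Finite.one_lt_card_iff_nontrivial.1 (by omega)
      obtain ⟨⟨s, hs⟩, hs1⟩ := exists_ne (1 : Y)
      have hBA : HasA B := hasA_of_ext le_ext2 self_mem_ext2 h4 hYab hcc hqq hcY (le_ext2 hs) self_mem_ext2
        (h2 s hs) hc00 (fun e => hs1 (Subtype.ext e)) hc01 (fun e => hcY (e ▸ hs))
      have hBab : ∀ a ∈ B, ∀ x ∈ X, a * x = x * a := by
        intro a ha x hx
        have hcx : c0 * x = x * c0 := by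
          obtain ⟨y, hy, c', hc', rfl⟩ := hdec x hx
          have e : c0 * c' = c' * c0 :=
            (congrArg Subtype.val (mem_center_iff.1 c.2 ⟨c', hc'⟩)).symm
          rw [← mul_assoc, hcc y hy, mul_assoc, e, ← mul_assoc]
        rcases ha with h | h
        · exact (hYc a h x hx).symm
        · have e : a = c0 * (c0⁻¹ * a) := by group
          rw [e, mul_assoc, ← hYc _ h x hx, ← mul_assoc, hcx, mul_assoc]
      rcases hBX.lt_or_eq with hBlt | hBeq
      · refine hsub B hBlt ?_ hBA
        intro k' hk'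
        refine mem_normalizer_fintype fun x hx => ?_
        rcases hx with h | h
        · exact le_ext2 (Coprime.conj_mem_of_le_normalizer hKY hk' h)
        · refine Or.inr ?_
          have e : c0⁻¹ * (k' * x * k'⁻¹) = k' * (c0⁻¹ * x) * k'⁻¹ := by
            have := mem_centralizer_iff.1 hc0C.2 k' hk'
            calc c0⁻¹ * (k' * x * k'⁻¹) = (c0⁻¹ * k') * x * k'⁻¹ := by group
              _ = (k' * c0⁻¹) * x * k'⁻¹ := by rw [show c0⁻¹ * k' = k' * c0⁻¹ from
                  (Commute.inv_right (show Commute k' c0 from this)).eq.symm]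
              _ = _ := by group
          rw [e]
          exact Coprime.conj_mem_of_le_normalizer hKY hk' h
      · exact hna ⟨⟨fun a b => Subtype.ext (hBab a (hBeq.ge a.2) b b.2)⟩⟩
    · refine Or.inr (Or.inl ?_)
      set C := X ⊓ centralizer (Y : Set S) with hC
      have hsup : Y ⊔ C = X := le_antisymm (sup_le hlt.le inf_le_left) fun x hx => by
        obtain ⟨c, hc, hcx⟩ := hin x hx
        have e : x = c * (c⁻¹ * x) := by group
        rw [e]
        exact mul_mem_sup hc (Subgroup.mem_inf.2 ⟨mul_mem (inv_mem (hlt.le hc)) hx, hcx⟩)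
      obtain ⟨r, hr, hrY⟩ := SetLike.exists_of_lt hlt
      obtain ⟨c, hc, hcr⟩ := hin r hr
      have hrc : c⁻¹ * r ∈ C := Subgroup.mem_inf.2 ⟨mul_mem (inv_mem (hlt.le hc)) hr, hcr⟩
      obtain ⟨d, hd, hdY, hdd⟩ := exists_sq_mem hX hrc.1 (B := Y) fun h => hrY (by
        have := mul_mem hc h
        rwa [mul_inv_cancel_left] at this)
      have hdC : d ∈ C := zpowers_le.2 hrc hd
      have hdd' : d * d = 1 ∨ d * d = z := q.invol _ hdd (q.cij _ hdd
        (mem_centralizer_iff.1 (mul_mem hdC.2 hdC.2) i q.hi).symm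
        (mem_centralizer_iff.1 (mul_mem hdC.2 hdC.2) j q.hj).symm)
      obtain ⟨hcc, hqq, hBA⟩ := q.hasA hK hdC.2 hdd' hdY
      have hKC : K ≤ normalizer (C : Set S) := Coprime.inf_le_normalizer hKX
        (hKY.trans (Coprime.normalizer_le_normalizer_centralizer Y))
      have hdfix : ∀ k ∈ K, k * d * k⁻¹ = d := by
        intro k hk
        have hu1 : k * d * k⁻¹ * d⁻¹ ∈ C := mul_mem (Coprime.conj_mem_of_le_normalizer hKC hk hdC) (inv_mem hdC)
        have hu2 : k * d * k⁻¹ * d⁻¹ ∈ Y := by
          rw [hY, show k * d * k⁻¹ * d⁻¹ = ⁅d, k⁆⁻¹ by simp only [commutatorElement_def]; group]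
          exact inv_mem (commutator_mem_commutator hdC.1 hk)
        have hYinv : ∀ y ∈ Y, k * y * k⁻¹ ∈ Y := fun y hy => Coprime.conj_mem_of_le_normalizer hKY hk hy
        have huu := q.cij _ hu2 (mem_centralizer_iff.1 hu1.2 i q.hi).symm (mem_centralizer_iff.1 hu1.2 j q.hj).symm
        have hfx : k * (k * d * k⁻¹ * d⁻¹) * k⁻¹ = k * d * k⁻¹ * d⁻¹ := by
          rcases q.invol _ hu2 huu with e | e <;> rw [e]
          · group
          · exact q.fix_z hYinv
        exact mul_inv_eq_one.1 (fix_of_step hK hX hk hu1.1 (x := d) (by group) hfx)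
      have hBK : K ≤ normalizer ((ext2 Y d hcc hqq : Subgroup S) : Set S) := fun k hk => by
        refine mem_normalizer_fintype fun x hx => ?_
        rcases hx with h | h
        · exact le_ext2 (Coprime.conj_mem_of_le_normalizer hKY hk h)
        · refine Or.inr ?_
          have e : d⁻¹ * (k * x * k⁻¹) = k * (d⁻¹ * x) * k⁻¹ := by
            nth_rewrite 1 [← hdfix k hk]
            group
          rw [e]
          exact Coprime.conj_mem_of_le_normalizer hKY hk h
      have hBX : ext2 Y d hcc hqq = X := by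
        rcases (ext2_le (hc := hcc) (hd := hqq) hlt.le hdC.1).lt_or_eq with h | h
        · exact absurd hBA (hsub _ h hBK)
        · exact h
      have hYQ : Nonempty (↥Y ≃* QuaternionGroup 2) := by
        rcases hkind with ⟨h4, -⟩ | h
        · rw [q.card] at h4; omega
        · exact h
      refine ⟨Y, 0, hlt.le, ?_, ?_, hsup⟩
      · rw [← hBX]; exact relIndex_ext2 hcc hqq hdY
      · simpa using hYQ
  · have hne : X ≠ ⊥ := fun e => hnc (e ▸ fun k _ => mem_centralizer_iff.2 fun v hv => by
      rw [mem_bot.1 hv, one_mul, mul_one])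
    have hPlt : Phi X < X := Phi_lt hne
    have hKP : K ≤ normalizer (Phi X : Set S) := char_norm hKX _
    obtain ⟨hPZ, hDsq, hPD, hPnc⟩ := top_data hK hX hne hKX hXK (cls _ hPlt hKP)
    have hPc : Phi X ≤ centralizer (X : Set S) := fun x hx => (mem_Zc.1 (hPZ hx)).2
    have hDP : Der X ≤ Phi X := Der_le_Phi hX
    have hDne : Der X ≠ ⊥ := by
      intro e
      refine hna ⟨⟨fun a b => Subtype.ext ?_⟩⟩
      exact commutatorElement_eq_one_iff_mul_comm.1 (mem_bot.1 (e ▸ comm_mem_Der a.2 b.2))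
    have hPeq : Phi X = Der X := by
      by_cases hc : K ≤ centralizer (Phi X : Set S)
      · exact hPD hc
      obtain ⟨h4, h2⟩ := hPnc hc
      refine le_antisymm ?_ hDP
      by_contra hle
      have hlt' : Der X < Phi X := lt_of_le_not_ge hDP hle
      have h1 := card_proper (hX.to_le hPlt.le) hlt'
      have hD2 : Nat.card (Der X) = 2 := by
        have : 1 < Nat.card (Der X) := (Subgroup.one_lt_card_iff_ne_bot _).2 hDne
        omega
      obtain ⟨z, hz, hz1, -, hDz⟩ := card_sup_of_le_two (R := X) hD2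
      refine hc (fix_klein hK h4 h2 hKP (hDP hz) hz1 fun k hk => ?_)
      rcases hDz _ (Coprime.conj_mem_of_le_normalizer (char_norm hKX _) hk hz) with e | e
      · exact absurd (conj_eq_one_iff.1 e) hz1
      · exact e
    have hZlt : Zc X < X := lt_of_le_of_ne (map_subtype_le _) fun e => hna ⟨⟨fun a b => Subtype.ext
      (mem_centralizer_iff.1 (mem_Zc.1 (e.ge b.2)).2 a a.2)⟩⟩
    have hKZ : K ≤ normalizer (Zc X : Set S) := char_norm hKX _
    have hnoA := hsub _ hPlt hKP
    obtain ⟨m, hm⟩ := IsPGroup.iff_card.1 (hX.to_le hPlt.le)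
    have hm0 : m ≠ 0 := fun e => by
      rw [e, pow_zero, card_eq_one, hPeq] at hm
      exact hDne hm
    have hm2 : m ≤ 2 := by
      by_contra h
      obtain ⟨V, hV, -⟩ := Sylow.exists_subgroup_card_pow_prime_le 2
        (n := 0) (m := 2) (by rw [hm]; exact pow_dvd_pow 2 (by omega)) (⊥ : Subgroup (Phi X)) (by simp) (by omega)
      have hV4 : Nat.card (V.map (Phi X).subtype) = 4 := by
        rw [card_map_of_injective (Phi X).subtype_injective, hV]; norm_num
      have hVle : V.map (Phi X).subtype ≤ Phi X := map_subtype_le _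
      have heq := eq_of_klein_central (hX.to_le hPlt.le) hnoA hVle hV4 (fun x hx => hDsq x (hPeq ▸ hVle hx))
        (fun x hx => centralizer_le hPlt.le (hPc (hVle hx)))
      rw [heq, hm] at hV4
      have : (2:ℕ) ^ 3 ≤ 2 ^ m := Nat.pow_le_pow_right two_pos (by omega)
      omega
    have conv : Zc X = Der X → Cfsg.IsSpecial 2 ↥X ∧ Nat.card ↥(center ↥X) = Nat.card (Zc X) := fun h =>
      ⟨⟨hX, map_injective X.subtype_injective (hPeq.trans h.symm),
        map_injective X.subtype_injective h.symm⟩, (card_map_of_injective X.subtype_injective).symm⟩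
    interval_cases m
    · exact absurd rfl hm0
    · rw [pow_one] at hm
      have hD2 : Nat.card (Der X) = 2 := hPeq ▸ hm
      have hZD := Zc_eq_Der hK hX hKX hXK (hPeq ▸ hPZ) hD2 (cls _ hZlt hKZ)
      obtain ⟨hsp, hcard⟩ := conv hZD
      refine Or.inl ⟨⟨hsp, by rw [hcard, hZD, hD2]⟩, ?_⟩
      obtain ⟨e, he⟩ := IsPGroup.iff_card.1 hX
      obtain ⟨A, hAX, hAab, -, hA8⟩ := hA
      have h8 := card_le_of_le hAX
      rw [hA8, he] at h8
      have he3 : 3 ≤ e := (Nat.pow_le_pow_iff_right (a := 2) one_lt_two).1 h8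
      have hne3 : e ≠ 3 := by
        intro e3
        refine hna ?_
        rw [← eq_of_le_of_card_ge hAX (by rw [hA8, he, e3]; norm_num)]
        exact hAab
      have hne4 : e ≠ 4 := fun e4 => extra_not_sixteen hX hD2 hPeq hZD (by rw [he, e4]; norm_num)
      rw [he]
      exact le_trans (by norm_num) (Nat.pow_le_pow_right two_pos (show 5 ≤ e by omega))
    · have h4 : Nat.card (Phi X) = 4 := hm
      have heq := eq_of_klein_central (hX.to_le hZlt.le) (hsub _ hZlt hKZ) hPZ h4
        (fun x hx => hDsq x (hPeq ▸ hx)) (fun x hx => centralizer_le hZlt.le (hPc hx))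
      obtain ⟨hsp, hcard⟩ := conv (heq.symm.trans hPeq)
      exact Or.inr (Or.inr ⟨hsp, by rw [hcard, ← heq, h4]⟩)

end CfsgLib.PGroup.MinEight
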