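import Cfsg.Agent.Lib.PGroup.MinimalEight.Main
import Mathlib
import Cfsg.Prelude

/-!
# Normality of the Sylow subgroup of a minimal solvable group with a subgroup of type `A`
-/

set_option autoImplicit false

namespace CfsgLib.PGroup.MinEight

open Subgroup
open scoped commutatorElement

variable {S : Type*} [Group S] [Finite S]

theorem Quat.aux {Q : Subgroup S} {i j z : S} (q : Quat Q i j z) (hC : centralizer (Q : Set S) ≤ Q) {w b : S}
    (hw : w ∈ Q) (hww : w * w = z) (hb : ∀ y ∈ Q, b * y * b⁻¹ ∈ Q) (hbw : b * w = w * b) :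
    b ∈ Q ∨ b * b = w ∨ b * b = z * w := by
  haveI : Fact (Nat.Prime 2) := ⟨Nat.prime_two⟩
  have hwo : orderOf w = 4 := orderOf_eq_prime_pow (p := 2) (n := 1)
    (by rw [pow_one, pow_two, hww]; exact q.z1)
    (by rw [show 2 ^ (1 + 1) = 2 * 2 from rfl, pow_mul, pow_two w, hww, pow_two, q.zz])
  have hwQ : zpowers w ≤ Q := zpowers_le.2 hw
  have hc : Nat.card Q = 2 * Nat.card (zpowers w) := by rw [Nat.card_zpowers, hwo, q.card]
  obtain ⟨v, hv, hvw⟩ : ∃ v ∈ Q, v ∉ zpowers w := SetLike.not_le_iff_exists.1 fun h => by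
    have := card_le_of_le h; rw [Nat.card_zpowers, hwo, q.card] at this; omega
  have hgen : ∀ y ∈ Q, y ∈ zpowers w ∨ y * v⁻¹ ∈ zpowers w := fun y hy =>
    (em (y ∈ zpowers w)).imp id fun h => mul_inv_mem_of_card hwQ hc hy hv h hvw
  have hcent : ∀ x : S, x * w = w * x → x * v = v * x → x ∈ centralizer (Q : Set S) := by
    intro x h1 h2
    refine mem_centralizer_iff.2 fun y hy => ?_
    rcases hgen y hy with h | ⟨n, h⟩
    · obtain ⟨n, rfl⟩ := h
      exact (Commute.zpow_right h1 n).eq.symm
    · have e : y = w ^ n * v := by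
        have h' : w ^ n = y * v⁻¹ := h
        rw [h', inv_mul_cancel_right]
      rw [e]
      exact ((Commute.zpow_right h1 n).mul_right h2).eq.symm
  have hvnc : v * w * v⁻¹ = z * w := by
    rcases q.cmz v hv w hw with e | e
    · exfalso
      have hvw' : v * w = w * v := commutatorElement_eq_one_iff_mul_comm.1 e
      have hvc := hcent v hvw' rfl
      have hwc := hcent w rfl hvw'.symm
      refine q.not_comm ⟨⟨fun a b => Subtype.ext ?_⟩⟩
      rcases hgen a a.2 with ⟨n, h⟩ | ⟨n, h⟩
      · have h' : w ^ n = (a : S) := h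
        show (a : S) * b = b * a
        rw [← h']
        exact (mem_centralizer_iff.1 (zpow_mem hwc n) b b.2).symm
      · have h' : (a : S) = w ^ n * v := by
          have : w ^ n = (a : S) * v⁻¹ := h
          rw [this, inv_mul_cancel_right]
        show (a : S) * b = b * a
        rw [h']
        exact (mem_centralizer_iff.1 (mul_mem (zpow_mem hwc n) hvc) b b.2).symm
    · exact mul_inv_eq_iff_eq_mul.1 e
  have hwv : w * v * w⁻¹ = z * v := by
    calc w * v * w⁻¹ = (v * w * v⁻¹ * w⁻¹)⁻¹ * v := by group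
      _ = z * v := by rw [hvnc, mul_inv_cancel_right, inv_eq_of_mul_eq_one_right q.zz]
  have hbv : b * v * b⁻¹ ∉ zpowers w := by
    rintro ⟨n, h⟩
    apply hvw
    have e : v = b⁻¹ * w ^ n * b := by rw [show w ^ n = b * v * b⁻¹ from h]; group
    have hcom : b⁻¹ * w ^ n = w ^ n * b⁻¹ := ((Commute.inv_left hbw).zpow_right n).eq
    rw [e, hcom, inv_mul_cancel_right]
    exact zpow_mem (mem_zpowers w) n
  obtain ⟨n, hn⟩ := mul_inv_mem_of_card hwQ hc (hb v hv) hv hbv hvw
  have hn' : b * v * b⁻¹ = w ^ n * v := by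
    have : w ^ n = b * v * b⁻¹ * v⁻¹ := hn
    rw [this, inv_mul_cancel_right]
  have hw4 : w ^ (4 : ℤ) = 1 := by
    have h := pow_orderOf_eq_one w
    rw [hwo] at h
    exact_mod_cast h
  have hz' : w ^ (2 : ℤ) = z := by rw [zpow_two, hww]
  have hcases : w ^ n = 1 ∨ w ^ n = w ∨ w ^ n = z ∨ w ^ n = z * w := by
    rw [← Int.emod_add_mul_ediv n 4, zpow_add, zpow_mul, hw4, one_zpow, mul_one]
    have h0 := Int.emod_nonneg n (by norm_num : (4 : ℤ) ≠ 0)
    have h1 := Int.emod_lt_of_pos n (by norm_num : (0 : ℤ) < 4)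
    interval_cases (n % 4)
    · exact Or.inl (zpow_zero w)
    · exact Or.inr (Or.inl (zpow_one w))
    · exact Or.inr (Or.inr (Or.inl hz'))
    · refine Or.inr (Or.inr (Or.inr ?_))
      rw [show (3 : ℤ) = 2 + 1 from rfl, zpow_add, hz', zpow_one]
  have hbz : b * z * b⁻¹ = z := q.fix_z hb
  have hbw' : b * w * b⁻¹ = w := by rw [hbw, mul_inv_cancel_right]
  have key : w ^ n = w ∨ w ^ n = z * w → b * b = w ∨ b * b = z * w := by
    intro h
    have h2 : b * (b * v * b⁻¹) * b⁻¹ = z * v := by
      rw [hn']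
      rcases h with e | e <;> rw [e]
      · calc b * (w * v) * b⁻¹ = (b * w * b⁻¹) * (b * v * b⁻¹) := by group
          _ = w * (w * v) := by rw [hbw', hn', e]
          _ = _ := by rw [← mul_assoc, hww]
      · calc b * (z * w * v) * b⁻¹ = (b * z * b⁻¹) * (b * w * b⁻¹) * (b * v * b⁻¹) := by group
          _ = z * w * (z * w * v) := by rw [hbz, hbw', hn', e]
          _ = z * (w * z) * w * v := by group
          _ = _ := by rw [← q.z_comm hw, ← mul_assoc z z, q.zz, one_mul, hww]
    have hmem : b * b * w⁻¹ ∈ centralizer (Q : Set S) := by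
      refine hcent _ ?_ ?_
      · have c1 : Commute (b * b * w⁻¹) w :=
          (((show Commute b w from hbw).mul_left hbw).mul_left (Commute.refl w).inv_left)
        exact c1.eq
      · have e : w⁻¹ * v * w = z * v := by
          have h1 := hwv
          calc w⁻¹ * v * w = w⁻¹ * (z * (z * v)) * w := by rw [← mul_assoc z z, q.zz, one_mul]
            _ = w⁻¹ * (z * (w * v * w⁻¹)) * w := by rw [h1]
            _ = (w⁻¹ * (z * w)) * v := by group
            _ = z * v := by rw [q.z_comm hw, inv_mul_cancel_left]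
        calc b * b * w⁻¹ * v = (b * b * (w⁻¹ * v * w) * b⁻¹ * b⁻¹) * (b * b * w⁻¹) := by group
          _ = ((b * (b * z * b⁻¹) * b⁻¹) * (b * (b * v * b⁻¹) * b⁻¹)) * (b * b * w⁻¹) := by rw [e]; group
          _ = v * (b * b * w⁻¹) := by rw [hbz, hbz, h2, ← mul_assoc z z, q.zz, one_mul]
    have hQ := hC hmem
    have hsq := q.cij _ hQ (mem_centralizer_iff.1 hmem i q.hi).symm (mem_centralizer_iff.1 hmem j q.hj).symm
    rcases q.invol _ hQ hsq with e | e
    · exact Or.inl (mul_inv_eq_one.1 e)
    · exact Or.inr (mul_inv_eq_iff_eq_mul.1 e)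
  rcases hcases with e | e | e | e
  · refine Or.inl (hC (hcent b hbw ?_))
    rw [e, one_mul, mul_inv_eq_iff_eq_mul] at hn'; exact hn'
  · exact Or.inr (key (Or.inl e))
  · left
    have hwb : w⁻¹ * b ∈ centralizer (Q : Set S) := by
      refine hcent _ ?_ ?_
      · have c1 : Commute (w⁻¹ * b) w := (Commute.refl w).inv_left.mul_left hbw
        exact c1.eq
      · calc w⁻¹ * b * v = w⁻¹ * (b * v * b⁻¹) * b := by group
          _ = w⁻¹ * (w * v * w⁻¹) * b := by rw [hn', e, hwv]
          _ = _ := by group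
    have := mul_mem hw (hC hwb)
    rwa [mul_inv_cancel_left] at this
  · exact Or.inr (key (Or.inr e))

theorem half {A : Subgroup S} (P : Subgroup S) (h : ∀ a ∈ A, ∀ b ∈ A, a ∉ P → b ∉ P → a * b ∈ P) :
    Nat.card A ≤ 2 * Nat.card (A ⊓ P : Subgroup S) := by
  set H := P.subgroupOf A with hH
  have hi : H.index ≤ 2 := by
    by_cases ht : H = ⊤
    · rw [ht, Subgroup.index_top]; norm_num
    obtain ⟨a, -, ha⟩ := SetLike.exists_of_lt (lt_top_iff_ne_top.2 ht)
    rw [index_eq_two_iff.2 ⟨a, fun b => ?_⟩]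
    by_cases hb : b ∈ H
    · refine Or.inr ⟨hb, fun h' => ha ?_⟩
      have := mul_mem (inv_mem hb) h'
      rwa [inv_mul_cancel_left] at this
    · refine Or.inl ⟨?_, hb⟩
      show ((b * a : A) : S) ∈ P
      exact h b b.2 a a.2 hb ha
  have h1 := H.card_mul_index
  have h2 : Nat.card H = Nat.card (A ⊓ P : Subgroup S) := by
    rw [← card_map_of_injective A.subtype_injective, hH, subgroupOf_map_subtype, inf_comm]
  calc Nat.card A = Nat.card H * H.index := h1.symm
    _ ≤ Nat.card H * 2 := Nat.mul_le_mul_left _ hi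
    _ = _ := by rw [h2, mul_comm]

/-- A self-centralizing four-group or quaternion group forces no subgroup of type `A`. -/
theorem not_A_of_kind {Q : Subgroup S} (hQn : Q.Normal) (hC : centralizer (Q : Set S) ≤ Q) (hQ : Kind Q)
    {A : Subgroup S} (hAab : IsMulCommutative A) (hAnc : ¬ IsCyclic A) (hA8 : Nat.card A = 8) : A ≤ Q := by
  haveI : Fact (Nat.Prime 2) := ⟨Nat.prime_two⟩
  haveI := hQn
  have hAQ : IsPGroup 2 A := IsPGroup.of_card (n := 3) (by rw [hA8]; norm_num)
  have hQ2 : IsPGroup 2 Q := by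
    rcases hQ with ⟨h, -⟩ | h
    · exact IsPGroup.of_card (n := 2) (by rw [h]; norm_num)
    · obtain ⟨e⟩ := h
      exact IsPGroup.of_card (n := 3) (by rw [Nat.card_congr e.toEquiv, Nat.card_eq_fintype_card, QuaternionGroup.card]; norm_num)
  have hP : IsPGroup 2 (A ⊔ Q : Subgroup S) := hAQ.to_sup_of_normal_right hQ2
  have hPN : A ⊔ Q ≤ normalizer (Q : Set S) := by rw [normalizer_eq_top]; exact le_top
  have hAc : ∀ a ∈ A, ∀ b ∈ A, a * b = b * a := fun a ha b hb =>
    congrArg Subtype.val (hAab.is_comm.comm ⟨a, ha⟩ ⟨b, hb⟩)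
  rcases hQ with ⟨h4, h2⟩ | h
  · exfalso
    obtain ⟨z, hz, hzo, hzc⟩ := Invol.exists_fixed_of_normalized hP hQ2 (by rintro rfl; rw [card_bot] at h4; omega) hPN
    have hzz : ∀ a ∈ A, a * z * a⁻¹ = z := fun a ha => by
      rw [mem_centralizer_singleton_iff.1 (hzc (mem_sup_left ha)), mul_inv_cancel_right]
    have hcard : Nat.card Q = 2 * Nat.card (zpowers z) := by rw [Nat.card_zpowers, hzo, h4]
    obtain ⟨v, hv, hvz⟩ : ∃ v ∈ Q, v ∉ zpowers z := SetLike.not_le_iff_exists.1 fun h => by
      have := card_le_of_le h; omega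
    have hmv : ∀ a ∈ A, a ∉ centralizer (Q : Set S) → a * v * a⁻¹ = z * v := by
      intro a ha hac
      have hfz : ∀ u ∈ zpowers z, a * u * a⁻¹ = u := by
        rintro u ⟨n, rfl⟩
        show a * z ^ n * a⁻¹ = z ^ n
        rw [← conj_zpow, hzz a ha]
      have hav : a * v * a⁻¹ ∉ zpowers z := by
        intro h
        have e : a * (a * v * a⁻¹) * a⁻¹ = a * v * a⁻¹ := hfz _ h
        have : a * v * a⁻¹ = v := by
          have := congrArg (fun x => a⁻¹ * x * a) e
          simpa [mul_assoc] using this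
        exact hvz (this ▸ h)
      have hu := mul_inv_mem_of_card (zpowers_le.2 hz) hcard (hQn.conj_mem v hv a) hv hav hvz
      obtain ⟨n, hn⟩ := hu
      have hn' : z ^ n = a * v * a⁻¹ * v⁻¹ := hn
      rcases Int.even_or_odd n with ⟨m, hm⟩ | ⟨m, hm⟩
      · exfalso
        rw [hm, ← two_mul, zpow_mul, zpow_two, h2 z hz, one_zpow, eq_comm, mul_inv_eq_one] at hn'
        refine hac (mem_centralizer_iff.2 fun y hy => ?_)
        have hy' : y ∈ zpowers z ∨ y * v⁻¹ ∈ zpowers z :=
          (em (y ∈ zpowers z)).imp id fun h => mul_inv_mem_of_card (zpowers_le.2 hz) hcard hy hv h hvz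
        have hay : a * y * a⁻¹ = y := by
          rcases hy' with h | h
          · exact hfz y h
          · calc a * y * a⁻¹ = (a * (y * v⁻¹) * a⁻¹) * (a * v * a⁻¹) := by group
              _ = y := by rw [hfz _ h, hn', inv_mul_cancel_right]
        exact (mul_inv_eq_iff_eq_mul.1 hay).symm
      · rw [hm, zpow_add, zpow_one, zpow_mul, zpow_two, h2 z hz, one_zpow, one_mul] at hn'
        exact (eq_mul_inv_iff_mul_eq.1 hn').symm
    have hh := half (A := A) (centralizer (Q : Set S)) (fun a ha b hb ha' hb' => by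
      refine mem_centralizer_iff.2 fun y hy => ?_
      have hy' : y ∈ zpowers z ∨ y * v⁻¹ ∈ zpowers z :=
        (em (y ∈ zpowers z)).imp id fun h => mul_inv_mem_of_card (zpowers_le.2 hz) hcard hy hv h hvz
      have hfz : ∀ u ∈ zpowers z, a * b * u * (a * b)⁻¹ = u := by
        rintro u ⟨n, rfl⟩
        show a * b * z ^ n * (a * b)⁻¹ = z ^ n
        rw [← conj_zpow, hzz _ (mul_mem ha hb)]
      have hab : a * b * v * (a * b)⁻¹ = v := by
        calc a * b * v * (a * b)⁻¹ = (a * z * a⁻¹) * (a * (z⁻¹ * (b * v * b⁻¹)) * a⁻¹) := by group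
          _ = z * (z * v) := by rw [hzz a ha, hmv b hb hb', inv_mul_cancel_left, hmv a ha ha']
          _ = v := by rw [← mul_assoc, h2 z hz, one_mul]
      have hay : a * b * y * (a * b)⁻¹ = y := by
        rcases hy' with h | h
        · exact hfz y h
        · calc a * b * y * (a * b)⁻¹ = (a * b * (y * v⁻¹) * (a * b)⁻¹) * (a * b * v * (a * b)⁻¹) := by group
            _ = y := by rw [hfz _ h, hab, inv_mul_cancel_right]
      exact (mul_inv_eq_iff_eq_mul.1 hay).symm)
    have hle : A ⊓ centralizer (Q : Set S) ≤ Q := inf_le_right.trans hC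
    have h1 := card_le_of_le hle
    have heq := eq_of_le_of_card_ge hle (by omega)
    have hAle : A ≤ centralizer (Q : Set S) := fun a ha => mem_centralizer_iff.2 fun y hy =>
      hAc y (heq.ge hy).1 a ha
    have := card_le_of_le (hAle.trans hC)
    omega
  · exfalso
    obtain ⟨i, j, z, q⟩ := exists_quat h
    have hzo : orderOf z = 2 := orderOf_eq_prime (by rw [pow_two]; exact q.zz) q.z1
    have hzmem : ∀ {x : S}, x ∈ zpowers z → x = 1 ∨ x = z := fun {x} hx => q.invol x (zpowers_le.2 q.hz hx) (by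
      obtain ⟨n, rfl⟩ := hx
      show z ^ n * z ^ n = 1
      rw [← ((Commute.refl z).mul_zpow n), q.zz, one_zpow])
    obtain ⟨w, hw, hwz, hwf⟩ := exists_fixed_mod hP le_sup_right hPN (Z := zpowers z) (fun h => by
      have := card_le_of_le h
      rw [Nat.card_zpowers, hzo, q.card] at this
      omega)
    have hww : w * w = z := (q.sq w hw).resolve_left fun e => by
      rcases q.invol w hw e with e' | e'
      · exact hwz (e' ▸ one_mem _)
      · exact hwz (e' ▸ mem_zpowers z)
    have hconj : ∀ a, ∀ y ∈ Q, a * y * a⁻¹ ∈ Q := fun a y hy => hQn.conj_mem y hy a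
    have hact : ∀ a ∈ A, a * w * a⁻¹ = w ∨ a * w * a⁻¹ = z * w := by
      intro a ha
      have h := inv_mem (hwf a (mem_sup_left ha))
      rw [commutatorElement_def, show (w * a * w⁻¹ * a⁻¹)⁻¹ = (a * w * a⁻¹) * w⁻¹ by group] at h
      rcases hzmem h with e | e
      · exact Or.inl (mul_inv_eq_one.1 e)
      · exact Or.inr (mul_inv_eq_iff_eq_mul.1 e)
    have hh := half (A := A) (centralizer {w}) (fun a ha b hb ha' hb' => by
      have e1 : a * w * a⁻¹ = z * w := (hact a ha).resolve_left fun e =>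
        ha' (mem_centralizer_singleton_iff.2 (mul_inv_eq_iff_eq_mul.1 e))
      have e2 : b * w * b⁻¹ = z * w := (hact b hb).resolve_left fun e =>
        hb' (mem_centralizer_singleton_iff.2 (mul_inv_eq_iff_eq_mul.1 e))
      refine mem_centralizer_singleton_iff.2 (mul_inv_eq_iff_eq_mul.1 ?_)
      calc a * b * w * (a * b)⁻¹ = (a * z * a⁻¹) * (a * (z⁻¹ * (b * w * b⁻¹)) * a⁻¹) := by group
        _ = z * (z * w) := by rw [q.fix_z (hconj a), e2, inv_mul_cancel_left, e1]
        _ = w := by rw [← mul_assoc, q.zz, one_mul])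
    obtain ⟨p, hp, hpQ, hpz⟩ : ∃ p ∈ A, p ∈ Q ∧ p * p = z := by
      by_cases hle : A ⊓ centralizer {w} ≤ Q
      · obtain ⟨p, hp, hpz⟩ : ∃ p ∈ A ⊓ centralizer {w}, p ∉ zpowers z := SetLike.not_le_iff_exists.1 fun h => by
          have := card_le_of_le h
          rw [Nat.card_zpowers, hzo] at this
          omega
        refine ⟨p, hp.1, hle hp, (q.sq p (hle hp)).resolve_left fun e => ?_⟩
        rcases q.invol p (hle hp) e with e' | e'
        · exact hpz (e' ▸ one_mem _)
        · exact hpz (e' ▸ mem_zpowers z)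
      · obtain ⟨a, ha, haQ⟩ := SetLike.not_le_iff_exists.1 hle
        rcases q.aux hC hw hww (hconj a) (mem_centralizer_singleton_iff.1 ha.2) with h | h | h
        · exact absurd h haQ
        · exact ⟨w, h ▸ mul_mem ha.1 ha.1, hw, hww⟩
        · refine ⟨z * w, h ▸ mul_mem ha.1 ha.1, mul_mem q.hz hw, ?_⟩
          calc z * w * (z * w) = z * (w * z) * w := by group
            _ = _ := by rw [← q.z_comm hw, ← mul_assoc z z, q.zz, one_mul, hww]
    have hpo : orderOf p = 4 := orderOf_eq_prime_pow (p := 2) (n := 1)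
      (by rw [pow_one, pow_two, hpz]; exact q.z1)
      (by rw [show 2 ^ (1 + 1) = 2 * 2 from rfl, pow_mul, pow_two p, hpz, pow_two, q.zz])
    have hpA : zpowers p ≤ A := zpowers_le.2 hp
    obtain ⟨a, ha, hap⟩ : ∃ a ∈ A, a ∉ zpowers p := SetLike.not_le_iff_exists.1 fun h => by
      have := card_le_of_le h
      rw [Nat.card_zpowers, hpo, hA8] at this
      omega
    have hzp : z ∈ zpowers p := hpz ▸ mul_mem (mem_zpowers p) (mem_zpowers p)
    have hT : ∀ t ∈ A, t * t = 1 → t ∈ zpowers p := by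
      intro t ht htt
      by_contra htp
      have hcm := hAc t ht p hp
      rcases q.aux hC hpQ hpz (hconj t) hcm with h | h | h
      · rcases q.invol t h htt with e | e
        · exact htp (e ▸ one_mem _)
        · exact htp (e ▸ hzp)
      · rw [htt] at h
        exact q.z1 (by rw [← hpz, ← h, one_mul])
      · rw [htt] at h
        have : p = z⁻¹ := eq_inv_of_mul_eq_one_right h.symm
        exact q.z1 (by rw [← hpz, this, ← mul_inv_rev, q.zz, inv_one])
    have ha2 : a * a = 1 ∨ a * a = z := by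
      by_cases hz2 : (a * a) * (a * a) = 1
      · have := hT _ (mul_mem ha ha) hz2
        exact q.invol _ (zpowers_le.2 hpQ this) hz2
      · exfalso
        refine hAnc ?_
        have h8 : a ^ 2 ^ 3 = 1 := by
          have := pow_card_eq_one' (G := A) (x := ⟨a, ha⟩)
          rw [hA8] at this
          simpa using congrArg Subtype.val this
        have hn4 : ¬ a ^ 2 ^ 2 = 1 := fun e => hz2 (by
          rw [← e, show (2:ℕ) ^ 2 = 2 + 2 from rfl, pow_add, pow_two])
        have ho : orderOf (⟨a, ha⟩ : A) = Nat.card A := by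
          rw [← Subgroup.orderOf_coe, hA8, orderOf_eq_prime_pow (p := 2) hn4 h8]; norm_num
        exact isCyclic_of_orderOf_eq_card _ ho
    rcases ha2 with e | e
    · exact hap (hT a ha e)
    · have := hT (a * p) (mul_mem ha hp) (by
        calc a * p * (a * p) = a * (p * a) * p := by group
          _ = a * a * (p * p) := by rw [← hAc a ha p hp]; group
          _ = 1 := by rw [e, hpz, q.zz])
      refine hap ?_
      have h' := mul_mem this (inv_mem (mem_zpowers p))
      rwa [mul_inv_cancel_right] at h'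

end CfsgLib.PGroup.MinEight
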