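import Cfsg.Agent.Lib.PGroup.MinimalEight.Basic
import Mathlib

/-!
# A normal quaternion subgroup of order eight moved by operators of odd order
-/

set_option autoImplicit false

namespace CfsgLib.PGroup.MinEight

open Subgroup
open scoped commutatorElement

theorem q8_facts :
    (∀ q : QuaternionGroup 2, q * q = 1 → q = 1 ∨ q = QuaternionGroup.a 2) ∧
    (∀ q : QuaternionGroup 2, q * q = 1 ∨ q * q = QuaternionGroup.a 2) ∧
    (∀ q r : QuaternionGroup 2, q * r * q⁻¹ * r⁻¹ = 1 ∨ q * r * q⁻¹ * r⁻¹ = QuaternionGroup.a 2) ∧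
    (∀ q : QuaternionGroup 2, q * q = 1 → ∀ r, q * r = r * q) ∧
    (∀ q : QuaternionGroup 2, q * QuaternionGroup.a 1 = QuaternionGroup.a 1 * q →
      q * QuaternionGroup.xa 0 = QuaternionGroup.xa 0 * q → q * q = 1) ∧
    (∀ q : QuaternionGroup 2, ∃ a : Fin 4, ∃ b : Fin 2,
      q = QuaternionGroup.a 1 ^ (a : ℕ) * QuaternionGroup.xa 0 ^ (b : ℕ)) := by
  refine ⟨by decide, by decide, by decide, by decide, by decide, by decide⟩

variable {S : Type*} [Group S]

/-- Standard elements of a quaternion group of order eight. -/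
structure Quat (Y : Subgroup S) (i j z : S) : Prop where
  hi : i ∈ Y
  hj : j ∈ Y
  hz : z ∈ Y
  ii : i * i = z
  jj : j * j = z
  zz : z * z = 1
  z1 : z ≠ 1
  jij : j * i * j⁻¹ = z * i
  iji : i * j * i⁻¹ = z * j
  invol : ∀ y ∈ Y, y * y = 1 → y = 1 ∨ y = z
  sq : ∀ y ∈ Y, y * y = 1 ∨ y * y = z
  cmz : ∀ y ∈ Y, ∀ w ∈ Y, y * w * y⁻¹ * w⁻¹ = 1 ∨ y * w * y⁻¹ * w⁻¹ = z
  cen : ∀ y ∈ Y, y * y = 1 → ∀ w ∈ Y, y * w = w * y
  cij : ∀ y ∈ Y, y * i = i * y → y * j = j * y → y * y = 1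
  gen : ∀ y ∈ Y, ∃ a b : ℕ, y = i ^ a * j ^ b
  card : Nat.card Y = 8

theorem exists_quat {Y : Subgroup S} (h : Nonempty (↥Y ≃* QuaternionGroup 2)) :
    ∃ i j z, Quat Y i j z := by
  obtain ⟨e⟩ := h
  obtain ⟨f1, f2, f3, f4, f5, f6⟩ := q8_facts
  refine ⟨(e.symm (QuaternionGroup.a 1) : Y), (e.symm (QuaternionGroup.xa 0) : Y),
    (e.symm (QuaternionGroup.a 2) : Y), ?_⟩
  have hinj : ∀ {x y : Y}, e x = e y → (x : S) = y := fun h => congrArg Subtype.val (e.injective h)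
  refine
    { hi := SetLike.coe_mem _, hj := SetLike.coe_mem _, hz := SetLike.coe_mem _
      ii := ?_, jj := ?_, zz := ?_, z1 := ?_, jij := ?_, iji := ?_, invol := ?_, sq := ?_, cmz := ?_
      cen := ?_, cij := ?_, gen := ?_, card := ?_ }
  · rw [← Subgroup.coe_mul]; exact hinj (by simp only [map_mul, MulEquiv.apply_symm_apply]; decide)
  · rw [← Subgroup.coe_mul]; exact hinj (by simp only [map_mul, MulEquiv.apply_symm_apply]; decide)
  · rw [← Subgroup.coe_mul, ← Subgroup.coe_one Y]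
    exact hinj (by simp only [map_mul, map_one, MulEquiv.apply_symm_apply]; decide)
  · intro h
    have h' : (e.symm (QuaternionGroup.a 2) : Y) = 1 := Subtype.ext h
    rw [MulEquiv.map_eq_one_iff] at h'
    exact absurd h' (by decide)
  · rw [← Subgroup.coe_mul, ← Subgroup.coe_inv, ← Subgroup.coe_mul, ← Subgroup.coe_mul]
    exact hinj (by simp only [map_mul, map_inv, MulEquiv.apply_symm_apply]; decide)
  · rw [← Subgroup.coe_mul, ← Subgroup.coe_inv, ← Subgroup.coe_mul, ← Subgroup.coe_mul]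
    exact hinj (by simp only [map_mul, map_inv, MulEquiv.apply_symm_apply]; decide)
  · intro y hy h
    have h' : e ⟨y, hy⟩ * e ⟨y, hy⟩ = 1 := by
      rw [← map_mul, show (⟨y, hy⟩ : Y) * ⟨y, hy⟩ = 1 from Subtype.ext h, map_one]
    rcases f1 _ h' with h'' | h''
    · exact Or.inl (congrArg Subtype.val ((MulEquiv.map_eq_one_iff e).1 h''))
    · exact Or.inr (hinj (x := ⟨y, hy⟩) (h''.trans (e.apply_symm_apply _).symm))
  · intro y hy
    rcases f2 (e ⟨y, hy⟩) with h'' | h'' <;> rw [← map_mul] at h''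
    · exact Or.inl (congrArg Subtype.val ((MulEquiv.map_eq_one_iff e).1 h''))
    · exact Or.inr (hinj (x := ⟨y, hy⟩ * ⟨y, hy⟩) (h''.trans (e.apply_symm_apply _).symm))
  · intro y hy w hw
    rcases f3 (e ⟨y, hy⟩) (e ⟨w, hw⟩) with h'' | h'' <;> rw [← map_mul, ← map_inv, ← map_inv, ← map_mul, ← map_mul] at h''
    · exact Or.inl (congrArg Subtype.val ((MulEquiv.map_eq_one_iff e).1 h''))
    · exact Or.inr (hinj (x := ⟨y, hy⟩ * ⟨w, hw⟩ * ⟨y, hy⟩⁻¹ * ⟨w, hw⟩⁻¹) (h''.trans (e.apply_symm_apply _).symm))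
  · intro y hy h w hw
    have h' : e ⟨y, hy⟩ * e ⟨y, hy⟩ = 1 := by
      rw [← map_mul, show (⟨y, hy⟩ : Y) * ⟨y, hy⟩ = 1 from Subtype.ext h, map_one]
    have := f4 _ h' (e ⟨w, hw⟩)
    rw [← map_mul, ← map_mul] at this
    exact hinj this
  · intro y hy h1 h2
    have a1 := congrArg e (show (⟨y, hy⟩ : Y) * e.symm (QuaternionGroup.a 1) = e.symm (QuaternionGroup.a 1) * ⟨y, hy⟩
      from Subtype.ext h1)
    have a2 := congrArg e (show (⟨y, hy⟩ : Y) * e.symm (QuaternionGroup.xa 0) = e.symm (QuaternionGroup.xa 0) * ⟨y, hy⟩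
      from Subtype.ext h2)
    simp only [map_mul, MulEquiv.apply_symm_apply] at a1 a2
    have := f5 _ a1 a2
    rw [← map_mul] at this
    exact congrArg Subtype.val ((MulEquiv.map_eq_one_iff e).1 this)
  · intro y hy
    obtain ⟨a, b, h⟩ := f6 (e ⟨y, hy⟩)
    refine ⟨a, b, ?_⟩
    rw [← Subgroup.coe_pow, ← Subgroup.coe_pow, ← Subgroup.coe_mul]
    exact hinj (x := ⟨y, hy⟩) (by rw [h, map_mul, map_pow, map_pow, e.apply_symm_apply, e.apply_symm_apply])
  · rw [Nat.card_congr e.toEquiv, Nat.card_eq_fintype_card, QuaternionGroup.card]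

namespace Quat

variable {Y : Subgroup S} {i j z : S} (q : Quat Y i j z)
include q

theorem comm_of_gens {x : S} (hxi : x * i = i * x) (hxj : x * j = j * x) : x ∈ centralizer (Y : Set S) :=
  mem_centralizer_iff.2 fun y hy => by
    obtain ⟨a, b, rfl⟩ := q.gen y hy
    exact ((Commute.pow_right hxi a).mul_right (Commute.pow_right hxj b)).eq.symm

theorem z_comm {y : S} (hy : y ∈ Y) : z * y = y * z := q.cen z q.hz q.zz y hy

theorem fix_z {g : S} (hg : ∀ y ∈ Y, g * y * g⁻¹ ∈ Y) : g * z * g⁻¹ = z := by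
  rcases q.invol _ (hg z q.hz) (by rw [conj_mul, q.zz, mul_one, mul_inv_cancel]) with h | h
  · exact absurd (conj_eq_one_iff.1 h) q.z1
  · exact h

theorem not_comm : ¬ IsMulCommutative Y := fun h => q.z1 (by
  haveI := h
  have h1 := congrArg Subtype.val (mul_comm' (⟨j, q.hj⟩ : Y) ⟨i, q.hi⟩)
  have h2 := q.jij
  rw [show j * i = i * j from h1, mul_inv_cancel_right] at h2
  exact mul_eq_right.1 h2.symm)

theorem ineq : j ∉ zpowers i := fun ⟨n, hn⟩ => q.z1 (by
  have h2 := q.jij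
  have hc : j * i = i * j := by rw [← hn]; exact ((Commute.refl i).zpow_left n).eq
  rw [hc, mul_inv_cancel_right] at h2
  exact mul_eq_right.1 h2.symm)

variable [Finite S] {K : Subgroup S} (hK : Odd (Nat.card K))
include hK

/-- The 2-group acts by inner automorphisms of the quaternion group. -/
theorem inner {R : Subgroup S} (hR : IsPGroup 2 R) (hYR : Y ≤ R) (hRY : R ≤ normalizer (Y : Set S))
    (hKR : K ≤ normalizer (R : Set S)) (hKY : K ≤ normalizer (Y : Set S))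
    (hnc : ¬ K ≤ centralizer (Y : Set S)) : ∀ r ∈ R, ∃ c ∈ Y, c⁻¹ * r ∈ centralizer (Y : Set S) := by
  have hconj : ∀ g ∈ R, ∀ y ∈ Y, g * y * g⁻¹ ∈ Y := fun g hg y hy => Coprime.conj_mem_of_le_normalizer hRY hg hy
  have hkc : ∀ g ∈ K, ∀ y ∈ Y, g * y * g⁻¹ ∈ Y := fun g hg y hy => Coprime.conj_mem_of_le_normalizer hKY hg hy
  have hzo : orderOf z = 2 := by
    haveI : Fact (Nat.Prime 2) := ⟨Nat.prime_two⟩
    exact orderOf_eq_prime (by rw [pow_two]; exact q.zz) q.z1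
  let Z : Subgroup S := zpowers z
  have hZY : Z ≤ Y := zpowers_le.2 q.hz
  have hZmem : ∀ {x : S}, x ∈ Z → x = 1 ∨ x = z := fun {x} hx =>
    q.invol x (hZY hx) (by
      obtain ⟨n, rfl⟩ := hx
      show z ^ n * z ^ n = 1
      rw [← ((Commute.refl z).mul_zpow n), q.zz, one_zpow])
  have hfz : ∀ g, (∀ y ∈ Y, g * y * g⁻¹ ∈ Y) → ∀ x ∈ Z, g * x * g⁻¹ = x := by
    intro g hg x hx
    rcases hZmem hx with rfl | rfl
    · group
    · exact q.fix_z hg
  let W : Subgroup S :=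
    { carrier := {y | y ∈ Y ∧ ∀ r ∈ R, ⁅y, r⁆ ∈ Z}
      one_mem' := ⟨one_mem Y, fun r _ => by rw [commutatorElement_one_left]; exact one_mem Z⟩
      mul_mem' := fun {a b} ha hb => ⟨mul_mem ha.1 hb.1, fun r hr => by
        have e : ⁅a * b, r⁆ = (a * ⁅b, r⁆ * a⁻¹) * ⁅a, r⁆ := by simp only [commutatorElement_def]; group
        rw [e, hfz a (fun y hy => mul_mem (mul_mem ha.1 hy) (inv_mem ha.1)) _ (hb.2 r hr)]
        exact mul_mem (hb.2 r hr) (ha.2 r hr)⟩
      inv_mem' := fun {a} ha => ⟨inv_mem ha.1, fun r hr => by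
        have e : ⁅a⁻¹, r⁆ = a⁻¹ * ⁅a, r⁆⁻¹ * a⁻¹⁻¹ := by simp only [commutatorElement_def]; group
        rw [e, hfz a⁻¹ (fun y hy => mul_mem (mul_mem (inv_mem ha.1) hy) (inv_mem (inv_mem ha.1))) _
          (inv_mem (ha.2 r hr))]
        exact inv_mem (ha.2 r hr)⟩ }
  have hWY : W ≤ Y := fun y hy => hy.1
  have hZW : Z ≤ W := fun x hx => ⟨hZY hx, fun r hr => by
    rw [commutatorElement_def, show x * r * x⁻¹ * r⁻¹ = x * (r * x⁻¹ * r⁻¹) by group,
      hfz r (hconj r hr) _ (inv_mem hx), mul_inv_cancel]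
    exact one_mem Z⟩
  have hkW : ∀ k ∈ K, ∀ y ∈ W, k * y * k⁻¹ ∈ W := fun k hk y hy => ⟨hkc k hk y hy.1, fun r hr => by
    have hr' : k⁻¹ * r * k ∈ R := by
      have := Coprime.conj_mem_of_le_normalizer hKR (inv_mem hk) hr
      rwa [inv_inv] at this
    have e : ⁅k * y * k⁻¹, r⁆ = k * ⁅y, k⁻¹ * r * k⁆ * k⁻¹ := by simp only [commutatorElement_def]; group
    rw [e, hfz k (hkc k hk) _ (hy.2 _ hr')]
    exact hy.2 _ hr'⟩
  by_cases hW : W = Y
  · intro r hr
    have act : ∀ y ∈ Y, r * y * r⁻¹ = y ∨ r * y * r⁻¹ = z * y := by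
      intro y hy
      have h := inv_mem ((hW.ge hy).2 r hr)
      rw [commutatorElement_def, show (y * r * y⁻¹ * r⁻¹)⁻¹ = (r * y * r⁻¹) * y⁻¹ by group] at h
      rcases hZmem h with e | e
      · exact Or.inl (mul_inv_eq_one.1 e)
      · exact Or.inr (mul_inv_eq_iff_eq_mul.1 e)
    have fin : ∀ c ∈ Y, r * i * r⁻¹ = c * i * c⁻¹ → r * j * r⁻¹ = c * j * c⁻¹ →
        ∃ c ∈ Y, c⁻¹ * r ∈ centralizer (Y : Set S) := by
      intro c hc h1 h2
      refine ⟨c, hc, q.comm_of_gens ?_ ?_⟩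
      · calc c⁻¹ * r * i = c⁻¹ * (r * i * r⁻¹) * r := by group
          _ = i * (c⁻¹ * r) := by rw [h1]; group
      · calc c⁻¹ * r * j = c⁻¹ * (r * j * r⁻¹) * r := by group
          _ = j * (c⁻¹ * r) := by rw [h2]; group
    have ij1 : i * i * i⁻¹ = i := by group
    have jj1 : j * j * j⁻¹ = j := by group
    rcases act i q.hi with hi | hi <;> rcases act j q.hj with hj | hj
    · exact fin 1 (one_mem Y) (by rw [hi]; group) (by rw [hj]; group)
    · exact fin i q.hi (by rw [hi, ij1]) (by rw [hj, q.iji])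
    · exact fin j q.hj (by rw [hi, q.jij]) (by rw [hj, jj1])
    · refine fin (i * j) (mul_mem q.hi q.hj) ?_ ?_
      · rw [hi]
        calc z * i = i * (j * i * j⁻¹) * i⁻¹ := by
              rw [q.jij, ← mul_assoc, ← q.z_comm q.hi, mul_inv_cancel_right]
          _ = _ := by group
      · rw [hj]
        calc z * j = i * (j * j * j⁻¹) * i⁻¹ := by rw [jj1, q.iji]
          _ = _ := by group
  · exfalso
    have hY2 : IsPGroup 2 Y := IsPGroup.of_card (n := 3) (by rw [q.card]; norm_num)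
    have hlt : W < Y := lt_of_le_of_ne hWY hW
    obtain ⟨w0, hw0, hw0Z, hw0f⟩ := exists_fixed_mod hR hYR hRY (Z := Z) (fun h => by
      have := card_le_of_le h
      rw [q.card, Nat.card_zpowers, hzo] at this
      omega)
    have hZlt : Z < W := lt_of_le_of_ne hZW fun e => hw0Z (e ▸ ⟨hw0, hw0f⟩)
    have h1 := card_proper hY2 hlt
    have h2 := card_proper (hY2.to_le hWY) hZlt
    rw [q.card] at h1
    rw [show Nat.card Z = 2 by rw [Nat.card_zpowers, hzo]] at h2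
    have hW4 : Nat.card W = 4 := by omega
    have hWfix : ∀ k ∈ K, ∀ w ∈ W, k * w * k⁻¹ = w := by
      intro k hk w hw
      by_cases hwZ : w ∈ Z
      · exact hfz k (hkc k hk) w hwZ
      have hkw : k * w * k⁻¹ ∉ Z := fun h => hwZ (by
        have e := hfz k⁻¹ (hkc k⁻¹ (inv_mem hk)) _ h
        rw [show k⁻¹ * (k * w * k⁻¹) * k⁻¹⁻¹ = w by group] at e
        exact e ▸ h)
      have hu := mul_inv_mem_of_card hZW (by rw [hW4, Nat.card_zpowers, hzo]) (hkW k hk w hw) hw hkw hwZ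
      have := fix_of_step hK hY2 hk (hZY hu) (x := w) (by group) (hfz k (hkc k hk) _ hu)
      exact mul_inv_eq_one.1 this
    refine hnc (le_centralizer_iff_fix.2 fun k hk y hy => ?_)
    by_cases hyW : y ∈ W
    · exact hWfix k hk y hyW
    have hky : k * y * k⁻¹ ∉ W := fun h => hyW (by
      have := hkW k⁻¹ (inv_mem hk) _ h
      rwa [show k⁻¹ * (k * y * k⁻¹) * k⁻¹⁻¹ = y by group] at this)
    have hu := mul_inv_mem_of_card hWY (by rw [hW4, q.card]) (hkc k hk y hy) hy hky hyW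
    have := fix_of_step hK hY2 hk (hWY hu) (x := y) (by group) (hWfix k hk _ hu)
    exact mul_inv_eq_one.1 this

/-- An element centralising `Y` with square in the centre gives a subgroup of type `A`. -/
theorem hasA {d : S} (hd : d ∈ centralizer (Y : Set S)) (hdd : d * d = 1 ∨ d * d = z) (hdY : d ∉ Y) :
    ∃ (hc : ∀ b ∈ Y, d * b = b * d) (hq : d * d ∈ Y), HasA (ext2 Y d hc hq) := by
  haveI : Fact (Nat.Prime 2) := ⟨Nat.prime_two⟩
  have hc : ∀ b ∈ Y, d * b = b * d := fun b hb => (mem_centralizer_iff.1 hd b hb).symm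
  have hq : d * d ∈ Y := by rcases hdd with e | e <;> rw [e]; exacts [one_mem Y, q.hz]
  refine ⟨hc, hq, ?_⟩
  have hi4 : Nat.card (zpowers i) = 4 := by
    rw [Nat.card_zpowers]
    exact orderOf_eq_prime_pow (p := 2) (n := 1) (by rw [pow_one, pow_two, q.ii]; exact q.z1)
      (by rw [show 2 ^ (1 + 1) = 2 * 2 from rfl, pow_mul, pow_two i, q.ii, pow_two, q.zz])
  have hiY : zpowers i ≤ Y := zpowers_le.2 q.hi
  have hzi : z ∈ zpowers i := q.ii ▸ mul_mem (mem_zpowers i) (mem_zpowers i)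
  have hdi : d ∉ zpowers i := fun h => hdY (hiY h)
  have hcd : ∀ b ∈ zpowers i, d * b = b * d := fun b hb => hc b (hiY hb)
  have hqd : d * d ∈ zpowers i := by rcases hdd with e | e <;> rw [e]; exacts [one_mem _, hzi]
  have hab : ∀ a ∈ zpowers i, ∀ b ∈ zpowers i, a * b = b * a := by
    rintro _ ⟨m, rfl⟩ _ ⟨n, rfl⟩
    exact ((Commute.refl i).zpow_zpow m n).eq
  rcases hdd with e | e
  · exact hasA_of_ext (hiY.trans le_ext2) self_mem_ext2 hi4 hab hcd hqd hdi (le_ext2 hzi) self_mem_ext2 q.zz e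
      q.z1 (fun h => hdY (h ▸ one_mem Y)) (fun h => hdY (h ▸ q.hz))
  · refine hasA_of_ext (hiY.trans le_ext2) self_mem_ext2 hi4 hab hcd hqd hdi (le_ext2 hzi)
      (mul_mem self_mem_ext2 (le_ext2 (mem_zpowers i))) q.zz ?_ q.z1 ?_ ?_
    · calc d * i * (d * i) = d * (i * d) * i := by group
        _ = d * d * (i * i) := by rw [← hc i q.hi]; group
        _ = 1 := by rw [e, q.ii, q.zz]
    · exact fun h => hdY ((eq_inv_of_mul_eq_one_left h) ▸ inv_mem q.hi)
    · exact fun h => hdY (eq_mul_inv_of_mul_eq h.symm ▸ mul_mem q.hz (inv_mem q.hi))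

end Quat

end CfsgLib.PGroup.MinEight
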